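import Cfsg.Agent.Chev.Ortho.SplitOmega
import Mathlib.LinearAlgebra.Matrix.Rank
import Mathlib.Algebra.CharP.Two
import Mathlib.Algebra.CharP.Lemmas
import Mathlib.Algebra.Polynomial.AlgebraMap

/-!
The sum of the powers of an isometry of order `2^a m` in characteristic two.
-/

set_option autoImplicit false

namespace Cfsg.Agent.D4Nat

open Matrix Module

universe u

variable {k : Type u} [Field k] {ι : Type} [Fintype ι] [DecidableEq ι]

theorem range_mul (X Y : Matrix ι ι k) :
    LinearMap.range (X * Y).mulVecLin = (LinearMap.range Y.mulVecLin).map X.mulVecLin := by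
  rw [mulVecLin_mul, LinearMap.range_comp]

theorem rank_mul_lt {X P : Matrix ι ι k} {N : ℕ} (hc : X * P = P * X) (hP : P * P = P)
    (hX : (X * P) ^ N = 0) (h0 : P ≠ 0) : (X * P).rank < P.rank := by
  refine lt_of_le_of_ne (rank_mul_le_right _ _) fun e => h0 ?_
  have hle : LinearMap.range (X * P).mulVecLin ≤ LinearMap.range P.mulVecLin := by
    rw [hc, mulVecLin_mul]; exact LinearMap.range_comp_le_range _ _
  have heq := Submodule.eq_of_le_of_finrank_eq hle e
  have hXPP : X * P * P = X * P := by rw [mul_assoc, hP]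
  have hstep : (LinearMap.range P.mulVecLin).map (X * P).mulVecLin =
      LinearMap.range P.mulVecLin := by rw [← range_mul, hXPP, heq]
  have hpow : ∀ j, LinearMap.range ((X * P) ^ j * P).mulVecLin = LinearMap.range P.mulVecLin := by
    intro j
    induction j with
    | zero => rw [pow_zero, one_mul]
    | succ j ih => rw [pow_succ', mul_assoc, range_mul, ih, hstep]
  have h := hpow N
  rw [hX, zero_mul, mulVecLin_zero, LinearMap.range_zero, eq_comm, LinearMap.range_eq_bot] at h
  exact Matrix.toLin'.injective (by rw [toLin'_apply', h, map_zero])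

theorem rank_pow_succ_lt {X : Matrix ι ι k} {N j : ℕ} (hX : X ^ N = 0) (hj : X ^ j ≠ 0) :
    (X ^ (j + 1)).rank < (X ^ j).rank := by
  refine lt_of_le_of_ne (by rw [pow_succ']; exact rank_mul_le_right _ _) fun e => hj ?_
  have hle : LinearMap.range (X ^ (j + 1)).mulVecLin ≤ LinearMap.range (X ^ j).mulVecLin := by
    rw [pow_succ, mulVecLin_mul]; exact LinearMap.range_comp_le_range _ _
  have heq := Submodule.eq_of_le_of_finrank_eq hle e
  have hpow : ∀ i, LinearMap.range (X ^ (j + i)).mulVecLin = LinearMap.range (X ^ j).mulVecLin := by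
    intro i
    induction i with
    | zero => rfl
    | succ i ih => rw [← add_assoc, pow_succ', range_mul, ih, ← range_mul, ← pow_succ', heq]
  have h := hpow N
  rw [pow_add, hX, mul_zero, mulVecLin_zero, LinearMap.range_zero, eq_comm,
    LinearMap.range_eq_bot] at h
  exact Matrix.toLin'.injective (by rw [toLin'_apply', h, map_zero])

theorem pow_eq_zero_of_rank_le {X : Matrix ι ι k} {N : ℕ} (hX : X ^ N = 0) :
    ∀ r, X.rank ≤ r → X ^ (r + 1) = 0 := by
  intro r hr
  by_contra h
  have hne : ∀ j, j ≤ r + 1 → X ^ j ≠ 0 := fun j hj h0 => h (pow_eq_zero_of_le hj h0)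
  have hb : ∀ j, j ≤ r → (X ^ (j + 1)).rank + j ≤ r := by
    intro j
    induction j with
    | zero => intro _; rw [zero_add, pow_one, add_zero]; exact hr
    | succ j ih =>
      intro hj
      have h1 := ih (by omega)
      have h2 := rank_pow_succ_lt hX (hne (j + 1) (by omega))
      omega
  have h1 := hb r le_rfl
  have h2 := rank_pow_succ_lt hX (hne (r + 1) le_rfl)
  omega

theorem rank_split {X P : Matrix ι ι k} (hc : X * P = P * X) (hP : P * P = P) :
    X.rank = (X * P).rank + (X * (1 - P)).rank := by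
  have hsup : LinearMap.range X.mulVecLin =
      LinearMap.range (X * P).mulVecLin ⊔ LinearMap.range (X * (1 - P)).mulVecLin := by
    refine le_antisymm ?_ (sup_le ?_ ?_)
    · rintro _ ⟨v, rfl⟩
      refine Submodule.mem_sup.2 ⟨_, ⟨v, rfl⟩, _, ⟨v, rfl⟩, ?_⟩
      rw [mulVecLin_apply, mulVecLin_apply, mulVecLin_apply, ← add_mulVec, ← mul_add,
        add_sub_cancel, mul_one]
    · rw [mulVecLin_mul]; exact LinearMap.range_comp_le_range _ _
    · rw [mulVecLin_mul]; exact LinearMap.range_comp_le_range _ _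
  have hinf : LinearMap.range (X * P).mulVecLin ⊓ LinearMap.range (X * (1 - P)).mulVecLin = ⊥ := by
    rw [eq_bot_iff]
    rintro v ⟨⟨a, rfl⟩, ⟨b, hb⟩⟩
    rw [Submodule.mem_bot]
    have h1 : P *ᵥ ((X * P).mulVecLin a) = (X * P).mulVecLin a := by
      rw [mulVecLin_apply, mulVec_mulVec, ← mul_assoc, ← hc, mul_assoc, hP]
    rw [← h1, ← hb, mulVecLin_apply, mulVec_mulVec, ← mul_assoc, ← hc, mul_assoc, mul_sub, mul_one,
      hP, sub_self, mul_zero, zero_mulVec]
  have h := Submodule.finrank_sup_add_finrank_inf_eq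
    (LinearMap.range (X * P).mulVecLin) (LinearMap.range (X * (1 - P)).mulVecLin)
  rw [hinf, finrank_bot, add_zero, ← hsup] at h
  exact h

variable [CharP k 2] [Nonempty ι]

theorem geom_two (M : Matrix ι ι k) (a : ℕ) :
    ∑ i ∈ Finset.range (2 ^ a), M ^ i = (M - 1) ^ (2 ^ a - 1) := by
  haveI : CharP (Matrix ι ι k) 2 := inferInstance
  induction a with
  | zero => simp
  | succ a ih =>
    have h1 : 1 ≤ 2 ^ a := Nat.one_le_two_pow
    rw [pow_succ, mul_two, Finset.sum_range_add, show 2 ^ a + 2 ^ a - 1 = 2 ^ a + (2 ^ a - 1) by omega,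
      pow_add]
    have hp : (M - 1) ^ 2 ^ a = M ^ 2 ^ a - 1 := by
      rw [sub_pow_char_pow_of_commute (p := 2) _ (Commute.one_right M), one_pow]
    simp only [pow_add, ← Finset.mul_sum]
    rw [ih, hp, sub_mul, one_mul]
    simp only [CharTwo.sub_eq_add]
    exact add_comm _ _

theorem geom_mul (M : Matrix ι ι k) (b c : ℕ) :
    ∑ i ∈ Finset.range (b * c), M ^ i =
      (∑ i ∈ Finset.range b, M ^ i) * ∑ j ∈ Finset.range c, (M ^ b) ^ j := by
  induction c with
  | zero => simp
  | succ c ih =>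
    rw [Nat.mul_succ, Finset.sum_range_add, ih, Finset.sum_range_succ, mul_add]
    congr 1
    rw [Finset.sum_mul]
    exact Finset.sum_congr rfl fun i _ => by rw [← pow_mul, ← pow_add, add_comm]

theorem geom_pow (M : Matrix ι ι k) (a m : ℕ) :
    (∑ i ∈ Finset.range m, M ^ i) ^ 2 ^ a = ∑ i ∈ Finset.range m, (M ^ 2 ^ a) ^ i := by
  have h := congrArg (Polynomial.aeval M) (sum_pow_char_pow (R := Polynomial k) 2 a
    (Finset.range m) fun i => Polynomial.X ^ i)
  simp only [map_pow, map_sum, Polynomial.aeval_X] at h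
  rw [h]
  exact Finset.sum_congr rfl fun i _ => by rw [← pow_mul, ← pow_mul, Nat.mul_comm]

theorem proj_sq {s : Matrix ι ι k} {m : ℕ} (hm : Odd m) (hs : s ^ m = 1) :
    (∑ i ∈ Finset.range m, s ^ i) * (∑ i ∈ Finset.range m, s ^ i) = ∑ i ∈ Finset.range m, s ^ i := by
  set P := ∑ i ∈ Finset.range m, s ^ i with hP
  have h1 : P * (s - 1) = 0 := by rw [hP, geom_sum_mul, hs, sub_self]
  rw [mul_sub, mul_one, sub_eq_zero] at h1
  have h2 : ∀ i, P * s ^ i = P := fun i => by
    induction i with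
    | zero => rw [pow_zero, mul_one]
    | succ i ih => rw [pow_succ, ← mul_assoc, ih, h1]
  conv_lhs => arg 2; rw [hP]
  rw [Finset.mul_sum, Finset.sum_congr rfl fun i _ => h2 i, Finset.sum_const, Finset.card_range]
  obtain ⟨c, rfl⟩ := hm
  rw [add_nsmul, one_nsmul, mul_nsmul, two_nsmul, CharTwo.add_self_eq_zero, smul_zero, zero_add]

/-- A combination of the powers of an element of order three. -/
def comb (s : Matrix ι ι k) (a b c : k) : Matrix ι ι k := a • 1 + b • s + c • (s * s)

omit [CharP k 2] [Nonempty ι] in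
theorem comb_mul {s : Matrix ι ι k} (hs : s * s * s = 1) (a b c a' b' c' : k) :
    comb s a b c * comb s a' b' c' =
      comb s (a * a' + b * c' + c * b') (a * b' + b * a' + c * c') (a * c' + b * b' + c * a') := by
  have h4 : s * s * (s * s) = s := by rw [← mul_assoc, hs, one_mul]
  have h3 : s * (s * s) = 1 := by rw [← mul_assoc, hs]
  simp only [comb, add_mul, mul_add, smul_mul_smul_comm, one_mul, mul_one, h4, h3, hs, add_smul]
  abel

omit [CharP k 2] [Nonempty ι] in
theorem comb_comm {s X : Matrix ι ι k} (h : X * s = s * X) (a b c : k) :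
    X * comb s a b c = comb s a b c * X := by
  simp only [comb, mul_add, add_mul, Algebra.mul_smul_comm, Algebra.smul_mul_assoc, mul_one, one_mul]
  rw [h, ← mul_assoc X, h, mul_assoc s X, h, ← mul_assoc]

variable {J u w s : Matrix ι ι k}

theorem rank_half_le {ω ω' : k} (hJ : IsUnit J.det) (hu : uᵀ * J * u = J)
    (hw : u * w = 1) (hs : sᵀ * J * s = J) (hs3 : s * s * s = 1) (hc : u * s = s * u) :
    ((u - 1) * comb s 1 ω ω').rank ≤ ((u - 1) * comb s 1 ω' ω).rank := by
  have hw' : w * u = 1 := mul_eq_one_comm.1 hw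
  have hs' : sᵀ * J = J * (s * s) := by
    have : sᵀ * J * s * (s * s) = J * (s * s) := by rw [hs]
    rwa [mul_assoc (sᵀ * J) s, ← mul_assoc s s, hs3, mul_one] at this
  have hs2 : (sᵀ * sᵀ) * J = J * s := by
    rw [mul_assoc, hs', ← mul_assoc, hs', mul_assoc, ← mul_assoc (s * s), hs3, one_mul]
  have hu' : uᵀ * J = J * w := by
    have : uᵀ * J * u * w = J * w := by rw [hu]
    rwa [mul_assoc (uᵀ * J) u, hw, mul_one] at this
  have hA : (comb s 1 ω ω')ᵀ * J = J * comb s 1 ω' ω := by
    simp only [comb, transpose_add, transpose_smul, transpose_one, transpose_mul, add_mul, mul_add,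
      Algebra.smul_mul_assoc, Algebra.mul_smul_comm, one_mul, mul_one, hs', hs2]
    abel
  have hu1 : (u - 1)ᵀ * J = J * (-(w * (u - 1))) := by
    rw [transpose_sub, transpose_one, sub_mul, one_mul, hu', mul_sub, mul_one, hw', neg_sub,
      mul_sub, mul_one]
  have hcomm : comb s 1 ω' ω * -(w * (u - 1)) = -w * ((u - 1) * comb s 1 ω' ω) := by
    have h1 : w * s = s * w := by
      calc w * s = w * s * (u * w) := by rw [hw, mul_one]
        _ = w * (u * s) * w := by rw [hc]; noncomm_ring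
        _ = (w * u) * (s * w) := by noncomm_ring
        _ = s * w := by rw [hw', one_mul]
    have h2 : (u - 1) * s = s * (u - 1) := by rw [sub_mul, mul_sub, hc, one_mul, mul_one]
    rw [mul_neg, ← mul_assoc, ← comb_comm h1, mul_assoc, ← comb_comm h2, neg_mul]
  have he : ((u - 1) * comb s 1 ω ω')ᵀ * J = J * (-w * ((u - 1) * comb s 1 ω' ω)) := by
    rw [transpose_mul, mul_assoc, hu1, ← mul_assoc, hA, mul_assoc, hcomm]
  calc ((u - 1) * comb s 1 ω ω').rank = (((u - 1) * comb s 1 ω ω')ᵀ * J).rank := by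
        rw [rank_mul_eq_left_of_isUnit_det _ _ hJ, rank_transpose]
    _ ≤ ((u - 1) * comb s 1 ω' ω).rank := by
        rw [he]; exact (rank_mul_le_right _ _).trans (rank_mul_le_right _ _)

theorem even_rank_fixed {ω : k} (hω : ω * ω + ω + 1 = 0) (hJ : IsUnit J.det)
    (hu : uᵀ * J * u = J) (hw : u * w = 1) (hs : sᵀ * J * s = J) (hs3 : s * s * s = 1)
    (hc : u * s = s * u) (hev : Even (u - 1).rank) :
    Even ((u - 1) * comb s 1 1 1).rank := by
  have h2 : (2 : k) = 0 := CharTwo.two_eq_zero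
  set ω' := ω * ω with hω'
  have hc1 : (u - 1) * s = s * (u - 1) := by rw [sub_mul, mul_sub, hc, one_mul, mul_one]
  have hPP : comb s (1 : k) 1 1 * comb s 1 1 1 = comb s 1 1 1 := by
    rw [comb_mul hs3]; congr 1 <;> linear_combination h2
  set R := 1 - comb s (1 : k) 1 1 with hR
  have hRA : R * comb s 1 ω ω' = comb s 1 ω ω' := by
    rw [hR, sub_mul, one_mul, sub_eq_self, comb_mul hs3]
    simp only [comb]
    rw [show (1 : k) * 1 + 1 * ω' + 1 * ω = 0 by linear_combination hω,
      show (1 : k) * ω + 1 * 1 + 1 * ω' = 0 by linear_combination hω,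
      show (1 : k) * ω' + 1 * ω + 1 * 1 = 0 by linear_combination hω]
    simp
  have hA : comb s 1 ω ω' * comb s 1 ω ω' = comb s 1 ω ω' := by
    rw [comb_mul hs3]
    congr 1 <;> simp only [hω'] <;> grind
  have hsum : R * (1 - comb s 1 ω ω') = comb s 1 ω' ω := by
    rw [mul_sub, mul_one, hRA, hR]
    have h1 : ω + 1 = ω' := by rw [hω', ← sub_eq_zero, CharTwo.sub_eq_add]; linear_combination hω
    simp only [comb, ← h1, add_smul, one_smul, CharTwo.sub_eq_add]
    have hd : ∀ Y : Matrix ι ι k, Y + Y = 0 := CharTwo.add_self_eq_zero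
    have : (1 : Matrix ι ι k) + (1 + s + s * s) + (1 + ω • s + (ω • (s * s) + s * s)) =
        (1 + (ω • s + s) + ω • (s * s)) + ((1 + 1) + (s * s + s * s)) := by abel
    rw [this, hd, hd, add_zero, add_zero]
  have hR' : (u - 1) * R = R * (u - 1) := by
    rw [hR, mul_sub, sub_mul 1 (comb s 1 1 1), mul_one, one_mul, comb_comm hc1]
  have e1 := rank_split (X := u - 1) (comb_comm hc1 1 1 1) hPP
  have hAR : comb s 1 ω ω' * R = comb s 1 ω ω' := by
    rw [hR, mul_sub, mul_one, sub_eq_self, comb_mul hs3]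
    simp only [comb]
    rw [show (1 : k) * 1 + ω * 1 + ω' * 1 = 0 by linear_combination hω]
    simp [show ω + ω' = -1 by linear_combination hω, show ω' + ω = -1 by linear_combination hω,
      show (1 : k) + ω' = -ω by linear_combination hω, show (1 : k) + ω = -ω' by linear_combination hω]
  have e2 := rank_split (X := (u - 1) * R) (P := comb s 1 ω ω')
    (by rw [mul_assoc, hRA, ← mul_assoc, ← comb_comm hc1, mul_assoc, hAR]) hA
  rw [mul_assoc, hRA, mul_assoc, hsum] at e2
  have e3 := rank_half_le (ω := ω) (ω' := ω') hJ hu hw hs hs3 hc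
  have e4 := rank_half_le (ω := ω') (ω' := ω) hJ hu hw hs hs3 hc
  obtain ⟨c, hev⟩ := hev
  rw [← hR] at e1
  exact ⟨c - ((u - 1) * comb s 1 ω ω').rank, by omega⟩

omit [CharP k 2] [Nonempty ι] in
theorem pow_iso {M : Matrix ι ι k} (h : Mᵀ * J * M = J) : ∀ j, (M ^ j)ᵀ * J * M ^ j = J
  | 0 => by simp
  | j + 1 => by
    rw [pow_succ, transpose_mul,
      show Mᵀ * (M ^ j)ᵀ * J * (M ^ j * M) = Mᵀ * ((M ^ j)ᵀ * J * M ^ j) * M by noncomm_ring,
      pow_iso h j, h]

/-- The main criterion. -/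
theorem sum_eq_zero {M : Matrix ι ι k} {a m : ℕ} (hcard : Fintype.card ι = 8) (hm : Odd m)
    (hM : M ^ (2 ^ a * m) = 1) (hJ : IsUnit J.det) (hiso : Mᵀ * J * M = J) {ω : k}
    (hω : ω * ω + ω + 1 = 0) (hev : Even (M ^ m - 1).rank)
    (hP : m = 1 ∨ (m = 3 ∧ (∑ i ∈ Finset.range m, (M ^ 2 ^ a) ^ i).rank ≤ 4) ∨
      (m = 7 ∧ (∑ i ∈ Finset.range m, (M ^ 2 ^ a) ^ i).rank ≤ 2) ∨
      ∑ i ∈ Finset.range m, (M ^ 2 ^ a) ^ i = 0) :
    ∑ i ∈ Finset.range (2 ^ a * m), M ^ i = 0 ∨ 2 ^ a * m ∈ [1, 2, 3, 4, 6, 7, 14] := by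
  rw [geom_mul, geom_two]
  set P := ∑ i ∈ Finset.range m, (M ^ 2 ^ a) ^ i with hPdef
  by_cases hP0 : P = 0
  · left; rw [hP0, mul_zero]
  have hP2 : P * P = P := proj_sq hm (by rw [← pow_mul, hM])
  have hMP : (M - 1) * P = P * (M - 1) := by
    refine Commute.eq (Commute.sum_right _ _ _ fun i _ => ?_)
    exact (((Commute.refl M).sub_left (Commute.one_left M)).pow_right _).pow_right _
  have hpow : ∀ j, ((M - 1) * P) ^ (j + 1) = (M - 1) ^ (j + 1) * P := fun j => by
    rw [Commute.mul_pow hMP, IsIdempotentElem.pow_succ_eq j hP2]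
  obtain ⟨b, hb⟩ : ∃ b, 2 ^ a = b + 1 := ⟨2 ^ a - 1, by have := Nat.one_le_two_pow (n := a); omega⟩
  have hnil : ((M - 1) * P) ^ 2 ^ a = 0 := by
    rw [hb, hpow, ← hb, sub_pow_char_pow_of_commute (p := 2) _ (Commute.one_right M), one_pow, hPdef,
      mul_geom_sum, ← pow_mul, hM, sub_self]
  have hlt := rank_mul_lt hMP hP2 hnil hP0
  have hP8 : P.rank ≤ 8 := hcard ▸ rank_le_card_height P
  have fin : ∀ r, ((M - 1) * P).rank ≤ r → r + 2 ≤ 2 ^ a → (M - 1) ^ (2 ^ a - 1) * P = 0 := by
    intro r hr hra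
    obtain ⟨j, hj⟩ : ∃ j, 2 ^ a - 1 = j + 1 := ⟨2 ^ a - 2, by omega⟩
    rw [hj, ← hpow]
    exact pow_eq_zero_of_le (by omega) (pow_eq_zero_of_rank_le hnil r hr)
  rcases Nat.lt_or_ge a 4 with ha | ha
  swap
  · left
    have : 16 ≤ 2 ^ a := (Nat.pow_le_pow_right two_pos ha : 2 ^ 4 ≤ 2 ^ a)
    exact fin 7 (by omega) (by omega)
  have hS : ((M ^ m - 1) * P).rank = ((M - 1) * P).rank := by
    set S := ∑ i ∈ Finset.range m, M ^ i with hSdef
    have hSM : (M - 1) * S = M ^ m - 1 := mul_geom_sum M m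
    have hSc : S * P = P * S := by
      refine Commute.eq (Commute.sum_right _ _ _ fun i _ => ?_)
      refine Commute.sum_left _ _ _ fun j _ => ?_
      exact ((Commute.pow_pow_self M _ _).pow_right _)
    refine le_antisymm ?_ ?_
    · rw [← hSM, mul_assoc, hSc, ← mul_assoc]; exact rank_mul_le_left _ _
    · have e : ((M ^ m - 1) * P) * S ^ b = (M - 1) * P := by
        rw [← hSM, mul_assoc (M - 1), hSc, ← mul_assoc, mul_assoc, ← pow_succ', ← hb, geom_pow,
          mul_assoc, hP2]
      conv_lhs => rw [← e]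
      exact rank_mul_le_left _ _
  rcases hP with rfl | ⟨rfl, hr⟩ | ⟨rfl, hr⟩ | h
  · interval_cases a <;> try (right; decide)
    left
    have hP1 : P = 1 := by simp [hPdef]
    rw [pow_one] at hev
    have hle : ((M - 1) * P).rank ≤ 7 := by omega
    rw [hP1, mul_one] at hle
    obtain ⟨c, hc⟩ := hev
    exact fin 6 (by rw [hP1, mul_one]; omega) (by norm_num)
  · interval_cases a <;> try (right; decide)
    · left
      have hs3 : M ^ 4 * M ^ 4 * M ^ 4 = 1 := by rw [← pow_add, ← pow_add]; exact hM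
      have hPc : P = comb (M ^ 4) 1 1 1 := by
        simp [hPdef, comb, Finset.sum_range_succ, sq]
      have hev' := even_rank_fixed (u := M ^ 3) (w := M ^ 9) (s := M ^ 4) hω hJ (pow_iso hiso 3)
        (by rw [← pow_add]; exact hM) (pow_iso hiso 4) hs3 (Commute.pow_pow_self M 3 4).eq hev
      rw [← hPc, hS] at hev'
      obtain ⟨c, hc⟩ := hev'
      exact fin 2 (by omega) (by norm_num)
    · left; exact fin 3 (by omega) (by norm_num)
  · interval_cases a <;> try (right; decide)
    · left; exact fin 1 (by omega) (by norm_num)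
    · left; exact fin 1 (by omega) (by norm_num)
  · exact absurd h hP0

end Cfsg.Agent.D4Nat
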