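import Cfsg.Agent.Chev.Ortho.SplitOmega
import Mathlib.LinearAlgebra.Dual.Lemmas
import Mathlib.LinearAlgebra.Matrix.Rank

/-!
Block triangular isometries of a hyperbolic form move an even number of dimensions.
-/

set_option autoImplicit false

namespace Cfsg.Agent.D4Nat

open Matrix Module Cfsg.Agent.Chev.Ortho

universe u v

variable {k : Type u} [Field k]

/-- The radical of an alternating form has even codimension. -/
theorem even_codim_ker : ∀ (n : ℕ) {V : Type v} [AddCommGroup V] [Module k V] [FiniteDimensional k V],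
    finrank k V = n → ∀ B : V →ₗ[k] V →ₗ[k] k, (∀ v, B v v = 0) →
      Even (n - finrank k (LinearMap.ker B)) := by
  intro n
  induction n using Nat.strong_induction_on with
  | _ n ih =>
    intro V _ _ _ hn B halt
    by_cases h0 : B = 0
    · subst h0
      rw [LinearMap.ker_zero, finrank_top, hn, Nat.sub_self]
      exact ⟨0, rfl⟩
    obtain ⟨x, hx⟩ : ∃ x, B x ≠ 0 := by
      by_contra h
      push Not at h
      exact h0 (LinearMap.ext h)
    obtain ⟨y₀, hy₀⟩ : ∃ y, B x y ≠ 0 := by
      by_contra h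
      push Not at h
      exact hx (LinearMap.ext h)
    obtain ⟨y, hy⟩ : ∃ y, B x y = 1 := ⟨(B x y₀)⁻¹ • y₀, by simp [hy₀]⟩
    have hsw : ∀ u w, B u w = - B w u := fun u w => by
      have h := halt (u + w)
      simp only [map_add, LinearMap.add_apply, halt, zero_add, add_zero] at h
      linear_combination h
    let f : V →ₗ[k] k × k := (B x).prod (B y)
    set W := LinearMap.ker f with hW
    have hmemW : ∀ w, w ∈ W ↔ B x w = 0 ∧ B y w = 0 := fun w => by simp [hW, f, Prod.ext_iff]
    have hyx : B y x = -1 := by rw [hsw, hy]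
    have hdec : ∀ v : V, v - B x v • y + B y v • x ∈ W := fun v => by
      rw [hmemW]
      constructor <;> simp [halt, hy, hyx]
    have hsurj : Function.Surjective f := fun p =>
      ⟨p.1 • y - p.2 • x, Prod.ext (by simp [f, halt, hy]) (by simp [f, halt, hyx])⟩
    have hdim : finrank k W + 2 = n := by
      have := LinearMap.finrank_range_add_finrank_ker f
      rw [LinearMap.range_eq_top.2 hsurj, finrank_top, finrank_prod, finrank_self, hn] at this
      rw [hW]; omega
    set B' := B.compl₁₂ W.subtype W.subtype with hB'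
    have hker : (LinearMap.ker B').map W.subtype = LinearMap.ker B := by
      ext v
      constructor
      · rintro ⟨w, hw, rfl⟩
        refine LinearMap.ext fun v => ?_
        have h1 := LinearMap.congr_fun hw ⟨_, hdec v⟩
        obtain ⟨h2, h3⟩ := (hmemW _).1 w.2
        simp only [hB', LinearMap.compl₁₂_apply, Submodule.subtype_apply, LinearMap.zero_apply,
          map_add, map_sub, map_smul, hsw (w : V) x, hsw (w : V) y, h2, h3, neg_zero, smul_zero,
          sub_zero, add_zero] at h1 ⊢
        exact h1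
      · intro hv
        have hv' : ∀ u, B v u = 0 := fun u => LinearMap.congr_fun hv u
        refine ⟨⟨v, (hmemW v).2 ⟨?_, ?_⟩⟩, LinearMap.ext fun w => ?_, rfl⟩
        · rw [hsw, hv', neg_zero]
        · rw [hsw, hv', neg_zero]
        · simpa [hB'] using hv' w
    have h := ih (finrank k W) (by omega) rfl B' (fun w => halt w)
    rw [← hker, Submodule.finrank_map_subtype_eq]
    have hle : finrank k (LinearMap.ker B') ≤ finrank k W := Submodule.finrank_le _
    rw [show n - finrank k (LinearMap.ker B') = finrank k W - finrank k (LinearMap.ker B') + 2 by omega]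
    exact h.add even_two

variable {m : ℕ}

theorem Q_elim (x y : Fin m → k) :
    Cfsg.quadFormPlus m k (Sum.elim x y) = x ⬝ᵥ y := by
  simp [Cfsg.quadFormPlus, dotProduct]

/-- Block triangular isometries move an even number of dimensions. -/
theorem even_rank_sub_one {g : OG k m}
    (hlow : ∀ i j, (g.1 : Matrix (Fin m ⊕ Fin m) (Fin m ⊕ Fin m) k) (Sum.inr i) (Sum.inl j) = 0) :
    Even ((g.1 : Matrix (Fin m ⊕ Fin m) (Fin m ⊕ Fin m) k) - 1).rank := by
  classical
  set M := (g.1 : Matrix (Fin m ⊕ Fin m) (Fin m ⊕ Fin m) k) with hM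
  set A := M.toBlocks₁₁ with hA
  set B := M.toBlocks₁₂ with hB
  set D := M.toBlocks₂₂ with hD
  have hMb : M = fromBlocks A B 0 D := by
    conv_lhs => rw [← fromBlocks_toBlocks M]
    rw [show M.toBlocks₂₁ = 0 from Matrix.ext hlow]
  have hap : ∀ x y : Fin m → k,
      M *ᵥ Sum.elim x y = Sum.elim (A *ᵥ x + B *ᵥ y) (D *ᵥ y) := fun x y => by
    rw [hMb, fromBlocks_mulVec]; simp
  have hiso : ∀ x y : Fin m → k, (A *ᵥ x + B *ᵥ y) ⬝ᵥ (D *ᵥ y) = x ⬝ᵥ y := fun x y => by
    have := mem_OG.1 g.2 (Sum.elim x y)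
    rwa [← hM, hap, Q_elim, Q_elim] at this
  have hBD : ∀ y, (B *ᵥ y) ⬝ᵥ (D *ᵥ y) = 0 := fun y => by simpa using hiso 0 y
  have hAD : Aᵀ * D = 1 := by
    refine Matrix.toLin'.injective (LinearMap.ext fun y => dotProduct_eq _ _ fun x => ?_)
    rw [Matrix.toLin'_apply, Matrix.toLin'_apply, one_mulVec, ← mulVec_mulVec, dotProduct_comm,
      dotProduct_mulVec, vecMul_transpose, dotProduct_comm y x]
    have := hiso x y
    rwa [add_dotProduct, hBD, add_zero] at this
  have hAt : IsUnit Aᵀ := IsUnit.of_mul_eq_one D hAD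
  have hAu : IsUnit A := (Matrix.isUnit_transpose A).1 hAt
  set X := A - 1 with hX
  set Z := D - 1 with hZ
  have hXt : Xᵀ = - (Aᵀ * Z) := by
    rw [hX, hZ, transpose_sub, transpose_one, mul_sub, hAD, mul_one, neg_sub]
  set K := LinearMap.ker Z.mulVecLin with hK
  have hmemK : ∀ y, y ∈ K ↔ D *ᵥ y = y := fun y => by
    rw [hK, LinearMap.mem_ker, mulVecLin_apply, hZ, sub_mulVec, one_mulVec, sub_eq_zero]
  have hKt : ∀ y, y ∈ K ↔ Xᵀ *ᵥ y = 0 := fun y => by
    rw [hXt, neg_mulVec, neg_eq_zero, ← mulVec_mulVec, hK, LinearMap.mem_ker, mulVecLin_apply]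
    refine ⟨fun h => by rw [h, mulVec_zero], fun h => ?_⟩
    exact Matrix.mulVec_injective_iff_isUnit.2 hAt (by rw [h, mulVec_zero])
  have hkerX : finrank k (LinearMap.ker X.mulVecLin) = finrank k K := by
    have h1 := LinearMap.finrank_range_add_finrank_ker X.mulVecLin
    have h2 := LinearMap.finrank_range_add_finrank_ker Z.mulVecLin
    have h3 : X.rank = Z.rank := by
      rw [← rank_transpose X, hXt, ← neg_mul, rank_mul_eq_right_of_isUnit_det]
      exact (isUnit_iff_isUnit_det _).1 (IsUnit.neg hAt)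
    rw [Matrix.rank, Matrix.rank] at h3
    rw [← hK] at h2
    omega
  have himg : ∀ v : Fin m → k, v ∈ LinearMap.range X.mulVecLin ↔ ∀ y ∈ K, v ⬝ᵥ y = 0 := by
    intro v
    constructor
    · rintro ⟨x, rfl⟩ y hy
      rw [mulVecLin_apply, dotProduct_comm, dotProduct_mulVec, ← mulVec_transpose, (hKt y).1 hy,
        zero_dotProduct]
    · intro h
      by_contra hv
      obtain ⟨φ, hφv, hφ⟩ := Submodule.exists_dual_map_eq_bot_of_notMem hv inferInstance
      set y : Fin m → k := fun i => φ (Pi.single i 1) with hy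
      have hφy : ∀ u, φ u = u ⬝ᵥ y := fun u => by
        conv_lhs => rw [pi_eq_sum_univ' u]
        simp [hy, dotProduct]
      refine hφv ?_
      rw [hφy]
      refine h y ((hKt y).2 (dotProduct_eq_zero _ fun x => ?_))
      rw [mulVec_transpose, ← dotProduct_mulVec, dotProduct_comm, ← hφy, ← mulVecLin_apply]
      have : φ (X.mulVecLin x) ∈ (LinearMap.range X.mulVecLin).map φ :=
        Submodule.mem_map_of_mem (LinearMap.mem_range_self _ x)
      rwa [hφ, Submodule.mem_bot] at this
  let β : K →ₗ[k] K →ₗ[k] k := LinearMap.mk₂ k (fun y z => (B *ᵥ y.1) ⬝ᵥ z.1)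
    (fun a b c => by simp [mulVec_add, add_dotProduct])
    (fun c a b => by simp [mulVec_smul, smul_dotProduct])
    (fun a b c => by simp [dotProduct_add]) (fun c a b => by simp [dotProduct_smul])
  have hev := even_codim_ker (finrank k K) (V := K) rfl β fun y => by
    show (B *ᵥ y.1) ⬝ᵥ y.1 = 0
    conv_lhs => arg 2; rw [← (hmemK _).1 y.2]
    exact hBD _
  set L := LinearMap.ker (M - 1).mulVecLin with hL
  let π : L →ₗ[k] (Fin m → k) := (LinearMap.funLeft k k Sum.inr).comp L.subtype
  have hmemL : ∀ x y, Sum.elim x y ∈ L ↔ X *ᵥ x + B *ᵥ y = 0 ∧ y ∈ K := fun x y => by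
    rw [hmemK, hL, LinearMap.mem_ker, mulVecLin_apply, sub_mulVec, one_mulVec, sub_eq_zero, hap,
      Sum.elim_eq_iff, hX, sub_mulVec, one_mulVec]
    rw [sub_add_eq_add_sub, sub_eq_zero]
  have hrange : LinearMap.range π = (LinearMap.ker β).map K.subtype := by
    ext y
    constructor
    · rintro ⟨z, rfl⟩
      have hz : (z : Fin m ⊕ Fin m → k) = Sum.elim (z.1 ∘ Sum.inl) (z.1 ∘ Sum.inr) :=
        (Sum.elim_comp_inl_inr _).symm
      have := z.2
      rw [hz, hmemL] at this
      refine ⟨⟨_, this.2⟩, LinearMap.ext fun w => ?_, rfl⟩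
      refine (himg _).1 ⟨-(z.1 ∘ Sum.inl), ?_⟩ w.1 w.2
      rw [mulVecLin_apply, mulVec_neg]
      exact neg_eq_of_add_eq_zero_right this.1
    · rintro ⟨⟨y, hy⟩, hz, rfl⟩
      obtain ⟨x, hx⟩ := (himg (B *ᵥ y)).2 fun w hw => LinearMap.congr_fun hz ⟨w, hw⟩
      refine ⟨⟨Sum.elim (-x) y, (hmemL _ _).2 ⟨?_, hy⟩⟩, rfl⟩
      rw [mulVec_neg, ← mulVecLin_apply, hx, neg_add_cancel]
  let e : LinearMap.ker π ≃ₗ[k] LinearMap.ker X.mulVecLin :=
    { toFun := fun z => ⟨z.1.1 ∘ Sum.inl, by
        have hz0 : z.1.1 ∘ Sum.inr = 0 := z.2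
        have := z.1.2
        rw [← Sum.elim_comp_inl_inr z.1.1, hz0, hmemL, mulVec_zero, add_zero] at this
        exact this.1⟩
      map_add' := fun a b => rfl
      map_smul' := fun a b => rfl
      invFun := fun x => ⟨⟨Sum.elim x.1 0, (hmemL _ _).2
        ⟨by rw [mulVec_zero, add_zero]; exact x.2, zero_mem _⟩⟩, rfl⟩
      left_inv := fun z => by
        have hz0 : z.1.1 ∘ Sum.inr = 0 := z.2
        refine Subtype.ext (Subtype.ext ?_)
        show Sum.elim (z.1.1 ∘ Sum.inl) 0 = z.1.1
        rw [← hz0, Sum.elim_comp_inl_inr]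
      right_inv := fun x => rfl }
  have h1 := LinearMap.finrank_range_add_finrank_ker π
  rw [e.finrank_eq, hkerX, hrange, Submodule.finrank_map_subtype_eq] at h1
  have h2 := LinearMap.finrank_range_add_finrank_ker (M - 1).mulVecLin
  rw [Module.finrank_fintype_fun_eq_card, Fintype.card_sum, Fintype.card_fin, ← hL] at h2
  rw [Matrix.rank]
  have hle : finrank k (LinearMap.ker β) ≤ finrank k K := Submodule.finrank_le _
  have hKm : finrank k K ≤ m := by
    have := Submodule.finrank_le K
    rwa [Module.finrank_fintype_fun_eq_card, Fintype.card_fin] at this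
  obtain ⟨c, hc⟩ := hev
  exact ⟨(m - finrank k K) + c, by omega⟩

end Cfsg.Agent.D4Nat
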