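import Cfsg.Agent.D4Nat.Rep
import Cfsg.Agent.D4Nat.Parity
import Cfsg.Agent.S1067
import Cfsg.Agent.S1088

/-!
Unipotent elements of `³D₄(2)` move an even number of dimensions.
-/

set_option autoImplicit false
set_option maxRecDepth 100000

namespace Cfsg.Agent.D4Nat

open Cfsg.Lie Matrix Cfsg.Agent.Chev Cfsg.Agent.Chev.Ortho
open scoped MatrixGroups

universe u v

/-- The levels of the coordinates. -/
def lev8 : I8 → ℕ := Sum.elim ![0, 1, 2, 3] ![6, 5, 4, 3]

theorem nz_lev : ∀ r : Fin 24, 12 ≤ (r : ℕ) → ∀ i j : I8, D4.nz r i j ≠ 0 → lev8 i < lev8 j := by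
  have h : ∀ r : Fin 24, ∀ i j : I8,
      (Nat.ble 12 (r : ℕ) && !(D4.nz (r : ℕ) i j == 0) && Nat.ble (lev8 j) (lev8 i)) = false := by
    decide +kernel
  intro r hr i j hne
  by_contra hlt
  have := h r i j
  simp [Nat.ble_eq_true_of_le hr, hne, Nat.ble_eq_true_of_le (not_lt.1 hlt)] at this

theorem lev_low : ∀ i j : Fin 4, ¬ lev8 (Sum.inr i) < lev8 (Sum.inl j) := by decide +kernel

theorem half_d4 : half chevD4 = 12 := by decide +kernel

theorem group_le (K : Type u) [Field K] [Fintype K] (hK : Fintype.card K = 8) :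
    twistedD4 K 2 ≤ chevD4.group K := by
  obtain ⟨φ, hφ, -, -, e⟩ := exists_twistD4 (K := K) (q := 2) Nat.prime_two.isPrimePow hK
  rw [← e]
  exact (twistD4 K φ hφ).G1_le_group

variable {F : Type u} [Field F] [CharP F 2]

/-- Strictly increasing levels off the diagonal. -/
def Tri (M : Matrix I8 I8 F) : Prop := ∀ i j, (M - 1) i j ≠ 0 → lev8 i < lev8 j

omit [CharP F 2] in
theorem tri_mul {A B : Matrix I8 I8 F} (hA : Tri A) (hB : Tri B) : Tri (A * B) := by
  intro i j h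
  by_contra hlt
  apply h
  have e : A * B - 1 = (A - 1) * (B - 1) + (A - 1) + (B - 1) := by noncomm_ring
  rw [e, Matrix.add_apply, Matrix.add_apply, Matrix.mul_apply,
    not_imp_comm.1 (hA i j) hlt, not_imp_comm.1 (hB i j) hlt, add_zero, add_zero]
  refine Finset.sum_eq_zero fun l _ => ?_
  by_cases h1 : lev8 i < lev8 l
  · rw [not_imp_comm.1 (hB l j) (by omega), mul_zero]
  · rw [not_imp_comm.1 (hA i l) h1, zero_mul]

omit [CharP F 2] in
theorem tri_one : Tri (1 : Matrix I8 I8 F) := fun i j h => absurd (by simp) h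

theorem tri_posUnipotent [Fintype F] : ∀ x ∈ chevD4.posUnipotent F,
    ∃ hx : x ∈ chevD4.group F, Tri (rep (⟨x, hx⟩ : ↥(chevD4.group F)) : Matrix I8 I8 F) := by
  intro x hx
  rw [posUnipotent_eq facts_chevD4] at hx
  induction hx using Subgroup.closure_induction with
  | mem y hy =>
    obtain ⟨r, t, hr12, hr, rfl⟩ := hy
    refine ⟨xG_mem_group facts_chevD4 r t, ?_⟩
    rw [half_d4] at hr12
    have hr' : r < 24 := hr
    rw [rep_xG, D4.rootEl_val hr']
    intro i j h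
    refine nz_lev ⟨r, hr'⟩ hr12 i j fun h0 => h ?_
    simp [D4.nf, h0]
  | one => exact ⟨Subgroup.one_mem _, by
      rw [show (⟨1, Subgroup.one_mem _⟩ : ↥(chevD4.group F)) = 1 from rfl, map_one]; exact tri_one⟩
  | mul a b _ _ iha ihb =>
    obtain ⟨ha, iha⟩ := iha
    obtain ⟨hb, ihb⟩ := ihb
    refine ⟨Subgroup.mul_mem _ ha hb, ?_⟩
    rw [show (⟨a * b, Subgroup.mul_mem _ ha hb⟩ : ↥(chevD4.group F)) = ⟨a, ha⟩ * ⟨b, hb⟩ from rfl,
      map_mul, Units.val_mul]
    exact tri_mul iha ihb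
  | inv a _ iha =>
    obtain ⟨ha, iha⟩ := iha
    refine ⟨Subgroup.inv_mem _ ha, ?_⟩
    rw [show (⟨a⁻¹, Subgroup.inv_mem _ ha⟩ : ↥(chevD4.group F)) = (⟨a, ha⟩)⁻¹ from rfl]
    set g : ↥(chevD4.group F) := ⟨a, ha⟩
    have hpow : ∀ n : ℕ, Tri ((rep g : Matrix I8 I8 F) ^ n) := by
      intro n
      induction n with
      | zero => rw [pow_zero]; exact tri_one
      | succ n ih => rw [pow_succ]; exact tri_mul ih iha
    have e : g⁻¹ = g ^ (orderOf g - 1) := by
      refine inv_eq_of_mul_eq_one_right ?_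
      rw [← pow_succ', Nat.sub_add_cancel (orderOf_pos g), pow_orderOf_eq_one]
    rw [e, map_pow, Units.val_pow_eq_pow_val]
    exact hpow _

variable {k : Type v} [Field k] [CharP k 2]

/-- A 2-element moves an even number of dimensions, in every extension field. -/
theorem even_rank_two_element [Fintype F] (hF : Fintype.card F = 8) (f : F →+* k)
    (g : ↥(twistedD4 F 2)) (hg : ∃ n, orderOf g = 2 ^ n) :
    Even ((rep (chevMap f ⟨g.1, group_le F hF g.2⟩) : Matrix I8 I8 k) - 1).rank := by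
  classical
  haveI : Fact (Nat.Prime 2) := ⟨Nat.prime_two⟩
  set U := (chevD4.posUnipotent F).subgroupOf (twistedD4 F 2) with hU
  have hcardU : Nat.card ↥U = 2 ^ 12 := by
    rw [hU, ← S1088.result (K := F) (q := 2) Nat.prime_two.isPrimePow hF,
      ← Subgroup.inf_subgroupOf_right]
    exact Nat.card_congr (Subgroup.subgroupOfEquivOfLe inf_le_right).toEquiv
  have hUp : IsPGroup 2 ↥U := IsPGroup.of_card hcardU
  obtain ⟨P, hP⟩ := hUp.exists_le_sylow
  have hPeq : (P : Subgroup ↥(twistedD4 F 2)) = U := by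
    refine (Subgroup.eq_of_le_of_card_ge hP ?_).symm
    rw [hcardU, P.card_eq_multiplicity, S1067.result (K := F) (q := 2) Nat.prime_two.isPrimePow hF]
    refine Nat.pow_le_pow_right two_pos ?_
    rw [show (2 : ℕ) ^ 12 * (2 ^ 2 - 1) * (2 ^ 6 - 1) * (2 ^ 8 + 2 ^ 4 + 1) = 2 ^ 12 * 51597 by norm_num,
      Nat.factorization_mul (by norm_num) (by norm_num)]
    rw [Finsupp.add_apply, Nat.Prime.factorization_pow Nat.prime_two, Finsupp.single_eq_same,
      Nat.factorization_eq_zero_of_not_dvd (by norm_num)]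
  obtain ⟨n, hn⟩ := hg
  obtain ⟨Q, hQ⟩ := (IsPGroup.of_card (n := n) (G := ↥(Subgroup.zpowers g))
    (by rw [Nat.card_zpowers, hn])).exists_le_sylow
  obtain ⟨y, hy⟩ := MulAction.exists_smul_eq ↥(twistedD4 F 2) Q P
  have hconj : y * g * y⁻¹ ∈ U := by
    rw [← hPeq, ← hy, Sylow.coe_subgroup_smul]
    exact Subgroup.smul_mem_pointwise_smul g (MulAut.conj y) _ (hQ (Subgroup.mem_zpowers g))
  obtain ⟨hx, htri⟩ := tri_posUnipotent _ (Subgroup.mem_subgroupOf.1 hconj)
  set z : ↥(chevD4.group F) := ⟨(y * g * y⁻¹ : ↥(twistedD4 F 2)).1, hx⟩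
  have hrep : (rep (chevMap f z) : Matrix I8 I8 k) = (rep z : Matrix I8 I8 F).map f := by
    rw [rep_chevMap]; rfl
  have hlow : ∀ i j, (rep (chevMap f z) : Matrix I8 I8 k) (Sum.inr i) (Sum.inl j) = 0 := by
    intro i j
    rw [hrep, Matrix.map_apply]
    have h := not_imp_comm.1 (htri (Sum.inr i) (Sum.inl j)) (lev_low i j)
    rw [Matrix.sub_apply, Matrix.one_apply_ne (by simp), sub_zero] at h
    rw [h, map_zero]
  have hev := even_rank_sub_one (g := repO (chevMap f z)) hlow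
  set w : ↥(chevD4.group F) := ⟨y.1, group_le F hF y.2⟩
  set g' : ↥(chevD4.group F) := ⟨g.1, group_le F hF g.2⟩
  have hz : z = w * g' * w⁻¹ := rfl
  rw [show ((repO (chevMap f z)).1 : Matrix I8 I8 k) = (rep (chevMap f z) : Matrix I8 I8 k) from rfl,
    hz] at hev
  simp only [map_mul, map_inv, Units.val_mul] at hev
  set W := rep (chevMap f w)
  have e : (W : Matrix I8 I8 k) * (rep (chevMap f g') : Matrix I8 I8 k) *
      ((W⁻¹ : GL I8 k) : Matrix I8 I8 k) - 1 =
      (W : Matrix I8 I8 k) * ((rep (chevMap f g') : Matrix I8 I8 k) - 1) *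
        ((W⁻¹ : GL I8 k) : Matrix I8 I8 k) := by
    rw [mul_sub, mul_one, sub_mul, Units.mul_inv]
  rwa [e, rank_mul_eq_left_of_isUnit_det _ _ ((isUnit_iff_isUnit_det _).1 (W⁻¹).isUnit),
    rank_mul_eq_right_of_isUnit_det _ _ ((isUnit_iff_isUnit_det _).1 W.isUnit)] at hev

end Cfsg.Agent.D4Nat
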