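import Cfsg.Agent.D4Nat.Torus
import Cfsg.Agent.D4Nat.Unip
import Cfsg.Agent.D4Nat.Mat

/-!
Which elements of `³D₄(2)` have a non-zero sum of powers on the eight dimensional module.
-/

set_option autoImplicit false
set_option maxRecDepth 100000

namespace Cfsg.Agent.D4Nat

open Cfsg.Lie Matrix Cfsg.Agent.Chev Cfsg.Agent.Chev.Ortho Cfsg.Agent.AltSec
open scoped MatrixGroups

universe u

/-- The matrix of the polar form. -/
def polarMat (F : Type u) [Field F] : Matrix I8 I8 F := Matrix.of fun i j => if j = bar i then 1 else 0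

variable {F : Type u} [Field F]

theorem polarMat_det : IsUnit (polarMat F).det := by
  refine (isUnit_iff_isUnit_det _).1 (IsUnit.of_mul_eq_one (polarMat F) ?_)
  ext i j
  rw [Matrix.mul_apply, Finset.sum_eq_single (bar i)]
  · simp [polarMat, Matrix.one_apply, bar_bar, eq_comm]
  · intro b _ hb; simp [polarMat, hb]
  · simp

theorem polarMat_iso (g : OG F 4) :
    (g.1 : Matrix I8 I8 F)ᵀ * polarMat F * (g.1 : Matrix I8 I8 F) = polarMat F := by
  have hpol : ∀ x y : I8 → F, quadFormPlus 4 F (x + y) =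
      quadFormPlus 4 F x + quadFormPlus 4 F y + ∑ a, x a * y (bar a) := by
    intro x y
    simp only [quadFormPlus, Pi.add_apply, Fintype.sum_sum_type, bar, Sum.swap_inl, Sum.swap_inr,
      ← Finset.sum_add_distrib]
    exact Finset.sum_congr rfl fun a _ => by ring
  have hinv : ∀ x y : I8 → F, ∑ a, act g x a * act g y (bar a) = ∑ a, x a * y (bar a) := by
    intro x y
    have h := hpol (act g x) (act g y)
    rw [← act_add, Q_act, Q_act, Q_act, hpol x y] at h
    exact (add_left_cancel h).symm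
  ext i l
  have h := hinv (Pi.single i 1) (Pi.single l 1)
  have hL : ((g.1 : Matrix I8 I8 F)ᵀ * polarMat F * (g.1 : Matrix I8 I8 F)) i l =
      ∑ a, act g (Pi.single i 1) a * act g (Pi.single l 1) (bar a) := by
    rw [mul_assoc, Matrix.mul_apply]
    refine Finset.sum_congr rfl fun a _ => ?_
    simp [act, polarMat, Matrix.mul_apply]
  rw [hL, h, Finset.sum_eq_single i]
  · simp [polarMat, Pi.single_apply, eq_comm]
  · intro b _ hb; simp [Pi.single_eq_of_ne hb]
  · simp

theorem fix_count {k : Type u} [Field k] [DecidableEq kˣ] [CharP k 2] {a : Fin 4 → ℕ} {ξ : kˣ}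
    (hξ : IsPrimitiveRoot ξ 819) {c : Fin chevD4.rank → kˣ}
    (hval : ∀ r : Fin 24, chiU c (r : ℕ) = ξ ^ D4Twist.rval 819 a r) :
    (Finset.univ.filter fun i : I8 => lam c i = 1).card = fixCount a := by
  classical
  have h0 : (Finset.univ : Finset I8) = coordIx.toFinset := by decide +kernel
  have h1 : coordIx.Nodup := by decide +kernel
  have h2 : coordIx = (List.finRange 8).map fun j : Fin 8 => coordIx.getD (j : ℕ) (.inl 0) := by decide +kernel
  have h3 : coordRoots = (List.finRange 8).map fun j : Fin 8 => coordRoots.getD (j : ℕ) (0, 0) := by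
    decide +kernel
  rw [h0, show coordIx.toFinset.filter (fun i => lam c i = 1) =
      (coordIx.filter fun i => decide (lam c i = 1)).toFinset by ext; simp, List.toFinset_card_of_nodup (h1.filter _), ← List.countP_eq_length_filter,
    fixCount]
  conv_lhs => rw [h2]
  conv_rhs => rw [h3]
  rw [List.countP_map, List.countP_map]
  refine List.countP_congr fun j _ => ?_
  simp only [Function.comp_apply, decide_eq_true_eq, beq_iff_eq]
  have hsq := lam_sq c j
  rw [hval, hval, ← pow_add] at hsq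
  rw [← Nat.dvd_iff_mod_eq_zero, ← hξ.pow_eq_one_iff_dvd, ← hsq]
  refine ⟨fun h => by rw [h, one_pow], fun h => Units.ext ?_⟩
  have h' := congrArg Units.val h
  rw [Units.val_pow_eq_pow_val, Units.val_one] at h'
  rw [Units.val_one]
  exact CharTwo.sq_inj.1 (by rw [h', one_pow])

variable {K : Type u} [Field K] [Fintype K] [CharP K 2]

theorem criterion (hK : Fintype.card K = 8) (g : ↥(twistedD4 K 2)) :
    ∑ i ∈ Finset.range (orderOf g),
        (rep (⟨g.1, group_le K hK g.2⟩ : ↥(chevD4.group K)) : Matrix I8 I8 K) ^ i = 0 ∨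
      orderOf g ∈ [1, 2, 3, 4, 6, 7, 14] := by
  classical
  obtain ⟨a, m, hm, hn⟩ : ∃ a m, Odd m ∧ orderOf g = 2 ^ a * m :=
    ⟨_, _, Nat.odd_iff.2 (by
      have := Nat.not_dvd_ordCompl Nat.prime_two (orderOf_pos g).ne'
      omega), (Nat.ordProj_mul_ordCompl_eq_self (orderOf g) 2).symm⟩
  let k := AlgebraicClosure K
  haveI : CharP k 2 := charP_of_injective_algebraMap (algebraMap K k).injective 2
  let f : K →+* k := algebraMap K k
  set g' : ↥(chevD4.group K) := ⟨g.1, group_le K hK g.2⟩ with hg'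
  let incl : ↥(twistedD4 K 2) →* ↥(chevD4.group K) := Subgroup.inclusion (group_le K hK)
  let θ : ↥(twistedD4 K 2) →* ↥(chevD4.group k) := (chevMap f).comp incl
  have hθ : Function.Injective θ := fun p q e =>
    Subgroup.inclusion_injective _ (Subtype.ext (gmap_injective f (congrArg Subtype.val e)))
  set M : Matrix I8 I8 k := (rep (θ g) : Matrix I8 I8 k) with hMdef
  have hMmap : M = (rep g' : Matrix I8 I8 K).map f := by
    rw [hMdef, show θ g = chevMap f g' from rfl, rep_chevMap]
    rfl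
  suffices h : ∑ i ∈ Finset.range (2 ^ a * m), M ^ i = 0 ∨ 2 ^ a * m ∈ [1, 2, 3, 4, 6, 7, 14] by
    rw [hn]
    refine h.imp_left fun h0 => ?_
    apply Matrix.map_injective f.injective
    simp only [hMmap, ← RingHom.mapMatrix_apply, ← map_pow, ← map_sum] at h0
    refine h0.trans ?_
    ext p q
    simp
  have hpowM : ∀ j : ℕ, M ^ j = (rep (θ (g ^ j)) : Matrix I8 I8 k) := fun j => by
    rw [map_pow, map_pow, Units.val_pow_eq_pow_val]
  have hMn : M ^ (2 ^ a * m) = 1 := by
    rw [hpowM, ← hn, pow_orderOf_eq_one, map_one, map_one, Units.val_one]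
  have hiso : Mᵀ * polarMat k * M = polarMat k := polarMat_iso (repO (θ g))
  obtain ⟨ω, hω⟩ : ∃ ω : k, ω * ω + ω + 1 = 0 := by
    haveI : NeZero ((3 : ℕ) : k) := ⟨fun h => by
      have := (CharP.cast_eq_zero_iff k 2 3).1 h; omega⟩
    obtain ⟨ω, hω⟩ := HasEnoughRootsOfUnity.exists_primitiveRoot k 3
    refine ⟨ω, ?_⟩
    have := hω.geom_sum_eq_zero (by norm_num)
    simp [Finset.sum_range_succ] at this
    linear_combination this
  have hev : Even (M ^ m - 1).rank := by
    rw [hpowM]
    refine even_rank_two_element hK f (g ^ m) ⟨a, ?_⟩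
    rw [orderOf_pow' _ hm.pos.ne', hn, Nat.gcd_mul_left_left, Nat.mul_div_cancel _ hm.pos]
  refine sum_eq_zero (by simp) hm hMn polarMat_det hiso hω hev ?_
  -- the semisimple part
  set s := g ^ 2 ^ a with hs
  have hsm : orderOf s = m := by
    rw [hs, orderOf_pow' _ (by positivity), hn, Nat.gcd_mul_right_left,
      Nat.mul_div_cancel_left _ (by positivity)]
  set x : GL chevD4.Idx k := (θ s).1 with hx
  obtain ⟨φ, hφ, -, hφq, hG1⟩ :=
    exists_twistD4 (K := K) (q := 2) Nat.prime_two.isPrimePow hK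
  haveI : Fact (Nat.Prime 2) := ⟨Nat.prime_two⟩
  have hσ : ∀ t : k, frobenius k 2 t = t ^ 2 := fun t => frobenius_def ..
  have hfix : D4Torus.frob (frobenius k 2) x = x := by
    set T := twistD4 K φ hφ
    have hmem : s.1 ∈ T.G1 := by rw [hG1]; exact s.2
    have h := T.mem_fx.1 (T.G1_le_fx hmem)
    rw [T.σ_apply] at h
    show d4_031_facts.aut (gmap chevD4 (frobenius k 2) (gmap chevD4 f s.1)) = gmap chevD4 f s.1
    conv_rhs => rw [← h]
    show _ = gmap chevD4 f (d4_031_facts.aut (gmap chevD4 φ s.1))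
    rw [D4Torus.gmap_aut]
    congr 1
    apply Units.ext
    ext p q
    simp only [gmap_apply]
    rw [hσ, show φ _ = _ ^ 2 by simpa using hφq 1 _, map_pow]
  have hxm : x ^ m = 1 := by
    rw [hx, ← Subgroup.coe_pow, ← map_pow, ← hsm, pow_orderOf_eq_one, map_one, Subgroup.coe_one]
  obtain ⟨e, ξ, y, c, hξ, hy, hc, hok, hval⟩ := exists_point' (θ s).2 hσ hfix hm hxm
  set P := ∑ i ∈ Finset.range m, (M ^ 2 ^ a) ^ i with hP
  set W := rep (⟨y, hy⟩ : ↥(chevD4.group k)) with hW
  have hconj : (W : Matrix I8 I8 k) * M ^ 2 ^ a * ((W⁻¹ : GL I8 k) : Matrix I8 I8 k) =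
      Matrix.diagonal fun i => ((lam c i : kˣ) : k) := by
    rw [← rep_torus c, hpowM, hW, ← Units.val_mul, ← map_inv rep, ← Units.val_mul, ← map_mul, ← map_mul]
    congr 2
    exact Subtype.ext hc
  have hlm : ∀ i, ((lam c i : kˣ) : k) ^ m = 1 := by
    intro i
    have h1 : ((W : Matrix I8 I8 k) * M ^ 2 ^ a * ((W⁻¹ : GL I8 k) : Matrix I8 I8 k)) ^ m = 1 := by
      rw [Units.conj_pow, ← pow_mul, hMn, mul_one, Units.mul_inv]
    rw [hconj, Matrix.diagonal_pow, ← Matrix.diagonal_one] at h1
    exact congrFun (Matrix.diagonal_injective h1) i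
  have hPd : (W : Matrix I8 I8 k) * P * ((W⁻¹ : GL I8 k) : Matrix I8 I8 k) =
      Matrix.diagonal fun i => if lam c i = 1 then (1 : k) else 0 := by
    rw [hP, Finset.mul_sum, Finset.sum_mul]
    simp only [← Units.conj_pow, hconj, Matrix.diagonal_pow]
    refine ((map_sum (Matrix.diagonalAddMonoidHom I8 k)
      (fun x => (fun i => ((lam c i : kˣ) : k)) ^ x) (Finset.range m)).symm).trans ?_
    rw [Matrix.diagonalAddMonoidHom_apply]
    congr 1
    funext i
    rw [Finset.sum_apply]
    simp only [Pi.pow_apply]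
    split_ifs with h
    · simp only [h, Units.val_one, one_pow, Finset.sum_const, Finset.card_range, nsmul_one]
      obtain ⟨b, rfl⟩ := hm
      rw [Nat.cast_add, Nat.cast_mul, Nat.cast_ofNat, CharTwo.two_eq_zero, zero_mul, zero_add, Nat.cast_one]
    · have h2 := geom_sum_mul ((lam c i : kˣ) : k) m
      rw [hlm, sub_self, mul_eq_zero, sub_eq_zero] at h2
      exact h2.resolve_right fun h3 => h (Units.ext h3)
  have hrank : P.rank = fixCount e := by
    rw [← fix_count hξ hval]
    calc P.rank = ((W : Matrix I8 I8 k) * P * ((W⁻¹ : GL I8 k) : Matrix I8 I8 k)).rank := by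
          rw [rank_mul_eq_left_of_isUnit_det _ _ ((isUnit_iff_isUnit_det _).1 (W⁻¹).isUnit),
            rank_mul_eq_right_of_isUnit_det _ _ ((isUnit_iff_isUnit_det _).1 W.isUnit)]
      _ = _ := by
          rw [hPd, Matrix.rank_diagonal, Fintype.card_subtype]
          congr 1
          ext i
          simp
  have hkill : ∀ n, killed n e = true → m ∣ n := by
    intro n hk
    rw [← hsm, ← orderOf_injective θ hθ]
    refine orderOf_dvd_of_pow_eq_one (Subtype.ext ?_)
    rw [Subgroup.coe_pow, Subgroup.coe_one, ← hx]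
    have h1 : torusHom (c ^ n) = (1 : GL chevD4.Idx k) := by
      refine (torusHom_eq_one_iff _).2 fun r => ?_
      rw [TorusTest.chiU_pow']
      refine (congrArg (· ^ n) (hval r)).trans ?_
      rw [← pow_mul, hξ.pow_eq_one_iff_dvd, mul_comm, Nat.dvd_iff_mod_eq_zero]
      simp only [killed, List.all_eq_true, beq_iff_eq] at hk
      exact hk r (List.mem_finRange _)
    rw [map_pow, ← hc, conj_pow] at h1
    rwa [mul_inv_eq_one, mul_eq_left] at h1
  simp only [pointOk, Bool.or_eq_true, Bool.and_eq_true, Nat.ble_eq, beq_iff_eq] at hok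
  rcases hok with ((h | ⟨h, h'⟩) | ⟨h, h'⟩) | h
  · exact Or.inl (Nat.dvd_one.1 (hkill 1 h))
  · rcases (Nat.dvd_prime Nat.prime_three).1 (hkill 3 h) with h1 | h1
    · exact Or.inl h1
    · exact Or.inr (Or.inl ⟨h1, hrank ▸ h'⟩)
  · rcases (Nat.dvd_prime (by norm_num : Nat.Prime 7)).1 (hkill 7 h) with h1 | h1
    · exact Or.inl h1
    · exact Or.inr (Or.inr (Or.inl ⟨h1, hrank ▸ h'⟩))
  · refine Or.inr (Or.inr (Or.inr ?_))
    rw [h] at hrank
    rw [Matrix.rank, Submodule.finrank_eq_zero, LinearMap.range_eq_bot] at hrank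
    exact Matrix.toLin'.injective (by rw [toLin'_apply', hrank, map_zero])

end Cfsg.Agent.D4Nat
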