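import Cfsg.Agent.D4Nat.Unip
import Mathlib.Algebra.Field.MinimalAxioms
import Mathlib.FieldTheory.Finite.GaloisField

/-!
Elements of orders 8, 12 and 28 in `³D₄(2)`, computed over an explicit field with eight elements.
-/

set_option autoImplicit false
set_option maxRecDepth 100000

namespace Cfsg.Agent.D4Nat

open Cfsg.Lie Matrix Cfsg.Agent.Chev Cfsg.Agent.Chev.Ortho
open scoped MatrixGroups

universe u

/-- The field with eight elements, as numbers read as polynomials modulo `x³ + x + 1`. -/
inductive Oct : Type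
  | o0 | o1 | o2 | o3 | o4 | o5 | o6 | o7
  deriving DecidableEq

namespace Oct

/-- The number of an element. -/
def num : Oct → ℕ
  | o0 => 0 | o1 => 1 | o2 => 2 | o3 => 3 | o4 => 4 | o5 => 5 | o6 => 6 | o7 => 7

/-- The element of a number. -/
def of (n : ℕ) : Oct := [o0, o1, o2, o3, o4, o5, o6, o7].getD n o0

instance : Fintype Oct where
  elems := ⟨[o0, o1, o2, o3, o4, o5, o6, o7], by decide +kernel⟩
  complete a := by cases a <;> decide +kernel

instance : Add Oct := ⟨fun a b => of (a.num ^^^ b.num)⟩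
instance : Neg Oct := ⟨fun a => a⟩
instance : Zero Oct := ⟨o0⟩
instance : One Oct := ⟨o1⟩

/-- The table of products. -/
def mulTab : List ℕ :=
  [0,0,0,0,0,0,0,0, 0,1,2,3,4,5,6,7, 0,2,4,6,3,1,7,5, 0,3,6,5,7,4,1,2,
   0,4,3,7,6,2,5,1, 0,5,1,4,2,7,3,6, 0,6,7,1,5,3,2,4, 0,7,5,2,1,6,4,3]

instance : Mul Oct := ⟨fun a b => of (mulTab.getD (8 * a.num + b.num) 0)⟩
instance : Inv Oct := ⟨fun a => of ([0, 1, 5, 6, 7, 2, 3, 4].getD a.num 0)⟩

instance instField : Field Oct :=
  Field.ofMinimalAxioms Oct
    (by decide +kernel) (by decide +kernel) (by decide +kernel) (by decide +kernel)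
    (by decide +kernel) (by decide +kernel) (by decide +kernel) (by decide +kernel)
    (by decide +kernel) ⟨o0, o1, by decide⟩

theorem card : Fintype.card Oct = 8 := by decide +kernel

theorem two : (2 : Oct) = 0 := by
  have : (1 : Oct) + 1 = 0 := by decide +kernel
  rwa [← one_add_one_eq_two]

instance : CharP Oct 2 := CharTwo.of_one_ne_zero_of_two_eq_zero one_ne_zero two

end Oct

/-- One root element acting on the list of coordinates. -/
def stepL (p : ℕ × Oct) (v : List Oct) : List Oct :=
  let a := (D4.tab.getD p.1 (0, 1)).1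
  let b := (D4.tab.getD p.1 (0, 1)).2
  List.ofFn fun j : Fin 8 =>
    v.getD (j : ℕ) 0 + (if (j : ℕ) = a then p.2 * v.getD ((b + 4) % 8) 0 else 0) +
      if (j : ℕ) = b then p.2 * v.getD ((a + 4) % 8) 0 else 0

/-- A word acting on the list of coordinates. -/
def appL : List (ℕ × Oct) → List Oct → List Oct
  | [], v => v
  | p :: w, v => stepL p (appL w v)

/-- A power of a word acting on the list of coordinates. -/
def iterL (w : List (ℕ × Oct)) : ℕ → List Oct → List Oct
  | 0, v => v
  | n + 1, v => appL w (iterL w n v)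

/-- The number of a coordinate. -/
def num8 : I8 → ℕ := Sum.elim (fun j => (j : ℕ)) fun j => 4 + (j : ℕ)

/-- The coordinates of a list. -/
def vec (v : List Oct) : I8 → Oct := fun i => v.getD (num8 i) 0

theorem num8_lt : ∀ i : I8, num8 i < 8 := by decide +kernel

theorem pair_num : ∀ r : Fin 24, ∀ i : I8,
    ((num8 i = (D4.tab.getD (r : ℕ) (0, 1)).1) ↔ i = D4.pa r) ∧
    ((num8 i = (D4.tab.getD (r : ℕ) (0, 1)).2) ↔ i = D4.pb r) ∧
    num8 (bar (D4.pb r)) = ((D4.tab.getD (r : ℕ) (0, 1)).2 + 4) % 8 ∧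
    num8 (bar (D4.pa r)) = ((D4.tab.getD (r : ℕ) (0, 1)).1 + 4) % 8 := by
  decide +kernel

theorem vec_step {r : ℕ} (hr : r < 24) (t : Oct) (v : List Oct) :
    vec (stepL (r, t) v) = act (D4.rootEl r t) (vec v) := by
  funext i
  rw [D4.rootEl, dif_pos hr, el_apply]
  obtain ⟨h1, h2, h3, h4⟩ := pair_num ⟨r, hr⟩ i
  simp only at h1 h2 h3 h4
  simp only [vec, stepL, CharTwo.sub_eq_add, h3, h4]
  rw [List.getD_eq_getElem _ _ (by rw [List.length_ofFn]; exact num8_lt i), List.getElem_ofFn]
  simp only [h1, h2]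

/-- The element of a word. -/
def wordEl (F : Type u) [Field F] (w : List (ℕ × F)) : ↥(chevD4.group F) :=
  (w.map fun p => (⟨xG facts_chevD4 p.1 p.2, xG_mem_group facts_chevD4 p.1 p.2⟩ :
    ↥(chevD4.group F))).prod

theorem vec_app : ∀ (w : List (ℕ × Oct)), (∀ p ∈ w, p.1 < 24) → ∀ v : List Oct,
    vec (appL w v) = act (repO (wordEl Oct w)) (vec v)
  | [], _, v => by simp [appL, wordEl, act_one]
  | p :: w, h, v => by
    rw [appL, vec_step (h p List.mem_cons_self), vec_app w (fun q hq => h q (List.mem_cons_of_mem _ hq)),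
      show wordEl Oct (p :: w) =
        (⟨xG facts_chevD4 p.1 p.2, xG_mem_group facts_chevD4 p.1 p.2⟩ : ↥(chevD4.group Oct)) *
          wordEl Oct w from List.prod_cons, map_mul, act_mul, repO_xG]

theorem vec_iter (w : List (ℕ × Oct)) (h : ∀ p ∈ w, p.1 < 24) : ∀ (n : ℕ) (v : List Oct),
    vec (iterL w n v) = act (repO (wordEl Oct w) ^ n) (vec v)
  | 0, v => by simp [iterL, act_one]
  | n + 1, v => by rw [iterL, vec_app w h, vec_iter w h n, pow_succ', act_mul]

/-- The lists of the standard basis. -/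
def basisL : List (List Oct) := (List.range 8).map fun i => (List.range 8).map fun j => if i = j then 1 else 0

/-- The word acts trivially after the given number of steps, and not after any proper one. -/
def orderOk (w : List (ℕ × Oct)) (n : ℕ) : Bool :=
  (w.all fun p => decide (p.1 < 24)) && (basisL.all fun b => decide (iterL w n b = b)) &&
    (List.range n).all fun j => j == 0 || basisL.any fun b => decide (iterL w j b ≠ b)

theorem basis_vec : ∀ i : I8, vec (basisL.getD (num8 i) []) = Pi.single i 1 := by decide +kernel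

theorem vec_inj : ∀ {u v : List Oct}, u.length = 8 → v.length = 8 → vec u = vec v → u = v := by
  intro u v hu hv h
  refine List.ext_getElem (hu.trans hv.symm) fun j hj hj' => ?_
  obtain ⟨i, hi⟩ := (show ∀ j : Fin 8, ∃ i : I8, num8 i = j by decide +kernel) ⟨j, hu ▸ hj⟩
  have e := congrFun h i
  simp only [vec, hi] at e
  rwa [List.getD_eq_getElem _ _ hj, List.getD_eq_getElem _ _ hj'] at e

theorem iterL_length (w : List (ℕ × Oct)) {v : List Oct} (hv : v.length = 8) :
    ∀ n, (iterL w n v).length = 8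
  | 0 => hv
  | n + 1 => by
    rw [iterL]
    cases w with
    | nil => exact iterL_length _ hv n
    | cons p w => rw [appL, stepL, List.length_ofFn]

theorem order_wordEl {w : List (ℕ × Oct)} {n : ℕ} (hn : 0 < n) (h : orderOk w n = true) :
    orderOf (wordEl Oct w) = n := by
  simp only [orderOk, Bool.and_eq_true, List.all_eq_true, decide_eq_true_eq, Bool.or_eq_true,
    beq_iff_eq, List.any_eq_true, List.mem_range] at h
  obtain ⟨⟨hlt, hfix⟩, hmove⟩ := h
  have hinj : Function.Injective (repO (F := Oct)) := fun a b e =>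
    rep_injective (congrArg Subtype.val e)
  have hb : ∀ b ∈ basisL, b.length = 8 := by decide +kernel
  rw [← orderOf_injective repO hinj, orderOf_eq_iff hn]
  constructor
  · refine ext_single fun i => ?_
    have hlen : num8 i < basisL.length := by
      rw [show basisL.length = 8 from rfl]; exact num8_lt i
    have hm : basisL.getD (num8 i) [] ∈ basisL := by
      rw [List.getD_eq_getElem _ _ hlen]; exact List.getElem_mem _
    rw [← basis_vec i, ← vec_iter w hlt, hfix _ hm, act_one]
  · intro j hj hj0 e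
    obtain ⟨b, hbm, hne⟩ := (hmove j hj).resolve_left (by omega)
    refine hne (vec_inj (iterL_length w (hb b hbm) j) (hb b hbm) ?_)
    rw [vec_iter w hlt, e, act_one]

variable (K : Type u) [Field K] [Fintype K]

theorem gmap_wordEl (ψ : Oct →+* K) (w : List (ℕ × Oct)) :
    (chevMap ψ (wordEl Oct w) : GL chevD4.Idx K) =
      wordG facts_chevD4 (w.map fun p => (p.1, ψ p.2)) := by
  induction w with
  | nil => simp [wordEl, wordG]
  | cons p w ih =>
    rw [wordEl] at ih ⊢
    rw [List.map_cons, List.prod_cons, map_mul, Subgroup.coe_mul, ih, List.map_cons]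
    simp only [wordG, List.map_cons, List.prod_cons]
    congr 1
    exact gmap_xG facts_chevD4 facts_chevD4 ψ p.1 p.2

/-- A generating word with the given label. -/
def gw : ℕ → Oct → List (ℕ × Oct)
  | 0, t => [(d4p2, t)]
  | 1, t => [(d4m2, t)]
  | 2, t => [(d4p1, t), (d4p3, t * t), (d4p4, t * t * (t * t))]
  | _, t => [(d4m1, t), (d4m3, t * t), (d4m4, t * t * (t * t))]

theorem gw_mem (ψ : Oct →+* K) {i : ℕ} {t : Oct} (ht : i ≤ 1 → t * t = t) :
    wordG facts_chevD4 ((gw i t).map fun p => (p.1, ψ p.2)) ∈ twistedD4 K 2 := by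
  refine Subgroup.subset_closure ⟨(gw i t).map fun p => (p.1, ψ p.2), ?_, by rw [wordG_val]⟩
  match i, ht with
  | 0, ht => exact Or.inl ⟨ψ t, by rw [sq, ← map_mul, ht (by omega)], d4p2, by simp, rfl⟩
  | 1, ht => exact Or.inl ⟨ψ t, by rw [sq, ← map_mul, ht (by omega)], d4m2, by simp, rfl⟩
  | 2, _ =>
    refine Or.inr ⟨ψ t, (d4p1, d4p3, d4p4), by simp, ?_⟩
    simp only [gw, List.map_cons, List.map_nil, map_mul]
    norm_num [pow_succ, mul_assoc]
  | n + 3, _ =>
    refine Or.inr ⟨ψ t, (d4m1, d4m3, d4m4), by simp, ?_⟩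
    simp only [gw, List.map_cons, List.map_nil, map_mul]
    norm_num [pow_succ, mul_assoc]

/-- The witnesses. -/
def witness : List (ℕ × List (ℕ × Oct)) :=
  [(8, [(3, Oct.o5), (1, Oct.o1)]), (12, [(0, Oct.o1), (3, Oct.o1), (2, Oct.o1)]),
    (28, [(3, Oct.o6), (2, Oct.o2), (1, Oct.o1)])]

theorem witness_ok : witness.all (fun x => decide (0 < x.1) &&
    (x.2.all fun p => decide (p.1 ≤ 1 → p.2 * p.2 = p.2)) &&
    orderOk (x.2.flatMap fun p => gw p.1 p.2) x.1) = true := by decide +kernel

theorem exists_order (hK : Fintype.card K = 8) [CharP K 2] {n : ℕ} (hn : n ∈ [8, 12, 28]) :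
    ∃ g : ↥(twistedD4 K 2), orderOf g = n := by
  obtain ⟨x, hx, rfl⟩ : ∃ x ∈ witness, x.1 = n := by
    simp only [List.mem_cons, List.not_mem_nil, or_false] at hn
    rcases hn with rfl | rfl | rfl <;> simp [witness]
  have h := List.all_eq_true.1 witness_ok x hx
  simp only [Bool.and_eq_true, decide_eq_true_eq, List.all_eq_true] at h
  obtain ⟨⟨h0, h1⟩, h2⟩ := h
  let ψ : Oct →+* K := (FiniteField.ringEquivOfCardEq (by rw [Oct.card, hK]) : Oct ≃+* K).toRingHom
  have hinj : Function.Injective (chevMap ψ) := fun a b e =>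
    Subtype.ext (gmap_injective ψ (congrArg Subtype.val e))
  have hmem : (chevMap ψ (wordEl Oct (x.2.flatMap fun p => gw p.1 p.2)) : GL chevD4.Idx K) ∈
      twistedD4 K 2 := by
    rw [gmap_wordEl]
    generalize x.2 = l at h1
    induction l with
    | nil => exact Subgroup.one_mem _
    | cons p l ih =>
      rw [List.flatMap_cons, List.map_append]
      simp only [wordG, List.map_append, List.prod_append]
      exact Subgroup.mul_mem _ (gw_mem K ψ (h1 p List.mem_cons_self))
        (ih fun q hq => h1 q (List.mem_cons_of_mem _ hq))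
  refine ⟨⟨_, hmem⟩, ?_⟩
  rw [← orderOf_injective (twistedD4 K 2).subtype Subtype.val_injective]
  show orderOf ((chevD4.group K).subtype (chevMap ψ (wordEl Oct _))) = x.1
  rw [orderOf_injective _ Subtype.val_injective, orderOf_injective _ hinj, order_wordEl h0 h2]

end Cfsg.Agent.D4Nat
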