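import Cfsg.Agent.Chev.Ortho.D4Iso
import Cfsg.Agent.Chev.Functorial
import Cfsg.Agent.Chev.Torus

/-!
The eight dimensional representation of the Chevalley group of type `D₄` in characteristic two.
-/

set_option autoImplicit false
set_option maxRecDepth 100000

namespace Cfsg.Agent.D4Nat

open Cfsg.Lie Matrix Cfsg.Agent.Chev Cfsg.Agent.Chev.Ortho
open scoped MatrixGroups

universe u v

abbrev I8 : Type := Fin 4 ⊕ Fin 4

variable {F : Type u} [Field F] [CharP F 2]

/-- An isometry commuting with all root elements is trivial. -/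
theorem eq_one_of_comm {y : OG F 4}
    (h : ∀ (a b : I8) (hab : Ok a b), el hab (1 : F) * y = y * el hab 1) : y = 1 := by
  set M : Matrix I8 I8 F := (y.1 : Matrix I8 I8 F) with hM
  have hc : ∀ (a b : I8), Ok a b → rootN a b * M = M * rootN a b := by
    intro a b hab
    have e := congrArg (fun g : OG F 4 => ((g.1 : GL I8 F) : Matrix I8 I8 F)) (h a b hab)
    simpa [el, rootU, add_mul, mul_add, ← hM] using e
  have key : ∀ (a b : I8), Ok a b → ∀ i, M i a = (if i = a then M (bar b) (bar b) else 0) -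
      (if i = b then M (bar a) (bar b) else 0) := by
    intro a b hab i
    have e := congrFun (congrFun (hc a b hab) i) (bar b)
    have hne : (bar b : I8) ≠ bar a := fun e => hab.1 (bar_inj e).symm
    simpa [rootN, Matrix.mul_apply, Matrix.sub_apply, Matrix.single_apply, hne, hne.symm,
      Finset.sum_sub_distrib, sub_mul, mul_sub, eq_comm (a := i), ite_and] using e.symm
  have htwo : ∀ a : I8, ∃ b b' : I8, Ok a b ∧ Ok a b' ∧ b ≠ b' := by
    unfold Ok
    decide +kernel
  have hdiag : ∀ a i : I8, i ≠ a → M i a = 0 := by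
    intro a i hia
    obtain ⟨b, b', hb, hb', hne⟩ := htwo a
    have e := key a b hb i
    have e' := key a b' hb' i
    rw [if_neg hia] at e e'
    by_cases hib : i = b
    · rw [e', if_neg (fun h => hne (hib.symm.trans h)), sub_zero]
    · rw [e, if_neg hib, sub_zero]
  have hsame : ∀ a b : I8, Ok a b → M a a = M (bar b) (bar b) := by
    intro a b hab
    have e := key a b hab a
    rwa [if_pos rfl, if_neg hab.1, sub_zero] at e
  have hconn : ∀ a : I8, a = Sum.inl 0 ∨ Ok (Sum.inl 0) (bar a) ∨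
      ∃ c, Ok (Sum.inl 0) (bar c) ∧ Ok c (bar a) := by
    unfold Ok
    decide +kernel
  have hall : ∀ a : I8, M a a = M (Sum.inl 0) (Sum.inl 0) := by
    intro a
    rcases hconn a with rfl | h | ⟨c, h1, h2⟩
    · rfl
    · rw [hsame _ _ h, bar_bar]
    · rw [hsame _ _ h1, bar_bar, hsame _ _ h2, bar_bar]
  set l := M (Sum.inl 0) (Sum.inl 0) with hl
  have hMl : M = l • (1 : Matrix I8 I8 F) := by
    ext i j
    by_cases e : i = j
    · subst e; simp [hall]
    · simp [Matrix.one_apply_ne e, hdiag j i e]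
  have hQ := Q_act y ((Pi.single (Sum.inl 0) 1 : I8 → F) + Pi.single (bar (Sum.inl 0)) 1)
  have hact : act y ((Pi.single (Sum.inl 0) 1 : I8 → F) + Pi.single (bar (Sum.inl 0)) 1) =
      (Pi.single (Sum.inl 0) l : I8 → F) + Pi.single (bar (Sum.inl 0)) l := by
    unfold act
    rw [← hM, hMl, Matrix.smul_mulVec, Matrix.one_mulVec, smul_add]
    congr 1 <;> (funext i; simp [Pi.single_apply])
  rw [hact, Q_two, Q_two] at hQ
  have hl1 : l = 1 := by
    rw [← sub_eq_zero (G := F)]
    refine pow_eq_zero_iff two_ne_zero |>.1 ?_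
    rw [CharTwo.sub_eq_add, CharTwo.add_sq, sq, hQ, one_mul, one_pow, CharTwo.add_self_eq_zero]
  refine Subtype.ext (Units.ext ?_)
  rw [← hM, hMl, hl1, one_smul]
  rfl

theorem ker_le : (D4.toChev F).ker ≤ (D4.toOmega F).ker := by
  intro x hx
  rw [MonoidHom.mem_ker]
  refine Subtype.ext ?_
  refine eq_one_of_comm fun a b hab => ?_
  obtain ⟨w, hw⟩ := D4.toOmega_surjective (F := F)
    ⟨el hab 1, el_mem_commutator (by omega) hab (1 : F)⟩
  have e : w * x = x * w := Subgroup.mem_center_iff.1 (D4.toChev_ker_le hx) w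
  have e1 := congrArg (fun z => ((D4.toOmega F z).1 : OG F 4)) e
  simp only [map_mul, Subgroup.coe_mul, hw] at e1
  exact e1

/-- The representation as isometries. -/
noncomputable def repO : ↥(chevD4.group F) →* OG F 4 :=
  (commutator (OG F 4)).subtype.comp
    ((D4.toChev F).liftOfSurjective D4.toChev_surjective ⟨D4.toOmega F, ker_le⟩)

/-- The representation as matrices. -/
noncomputable def rep : ↥(chevD4.group F) →* GL I8 F := (OG F 4).subtype.comp repO

theorem repO_xG (r : ℕ) (t : F) :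
    repO (⟨xG facts_chevD4 r t, xG_mem_group facts_chevD4 r t⟩ : ↥(chevD4.group F)) =
      D4.rootEl r t := by
  have e : (⟨xG facts_chevD4 r t, xG_mem_group facts_chevD4 r t⟩ : ↥(chevD4.group F)) =
      D4.toChev F (D4.pX r t) := rfl
  rw [repO, MonoidHom.comp_apply, e]
  rw [MonoidHom.liftOfRightInverse_comp_apply]
  rfl

theorem rep_xG (r : ℕ) (t : F) :
    rep (⟨xG facts_chevD4 r t, xG_mem_group facts_chevD4 r t⟩ : ↥(chevD4.group F)) =
      (D4.rootEl r t).1 := by
  rw [rep, MonoidHom.comp_apply, repO_xG]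
  rfl

theorem rep_injective : Function.Injective (rep (F := F)) := by
  rw [← MonoidHom.ker_eq_bot_iff]
  haveI := (d4_simple (F := F)).1
  rcases (rep (F := F)).normal_ker.eq_bot_or_eq_top with h | h
  · exact h
  exfalso
  have h1 : (⟨xG facts_chevD4 23 (1 : F), xG_mem_group facts_chevD4 23 1⟩ :
      ↥(chevD4.group F)) ∈ (rep (F := F)).ker := by rw [h]; exact Subgroup.mem_top _
  rw [MonoidHom.mem_ker, rep_xG] at h1
  have h2 := congrArg (fun g : GL I8 F => (g : Matrix I8 I8 F)
    (D4.pa 23) (bar (D4.pb 23))) h1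
  rw [D4.rootEl_val (by norm_num)] at h2
  simp [D4.nf_eq, rootN, D4.pa, D4.pb, D4.tab, D4.ix, bar] at h2

variable {E : Type v} [Field E] [CharP E 2]

/-- The induced map on groups. -/
noncomputable def chevMap (f : E →+* F) : ↥(chevD4.group E) →* ↥(chevD4.group F) where
  toFun g := ⟨gmap chevD4 f g.1, gmap_mem_group facts_chevD4 facts_chevD4 f g.2⟩
  map_one' := Subtype.ext (map_one _)
  map_mul' _ _ := Subtype.ext (map_mul _ _ _)

theorem rep_chevMap (f : E →+* F) (g : ↥(chevD4.group E)) :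
    rep (chevMap f g) = Matrix.GeneralLinearGroup.map f (rep g) := by
  have H : ∀ x (hx : x ∈ chevD4.group E),
      rep (chevMap f ⟨x, hx⟩) = Matrix.GeneralLinearGroup.map f (rep ⟨x, hx⟩) := by
    intro x hx
    induction hx using Subgroup.closure_induction with
    | mem y hy =>
      obtain ⟨r, t, e⟩ := hy
      obtain rfl : y = xG facts_chevD4 (r : ℕ) t :=
        Units.ext (e.trans (by rw [xG_val, ChevalleyDatum.x, dif_pos r.2]))
      have e1 : chevMap f ⟨xG facts_chevD4 (r : ℕ) t, xG_mem_group facts_chevD4 r t⟩ =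
          ⟨xG facts_chevD4 (r : ℕ) (f t), xG_mem_group facts_chevD4 r (f t)⟩ :=
        Subtype.ext (gmap_xG facts_chevD4 facts_chevD4 f r t)
      rw [e1, rep_xG, rep_xG]
      refine Units.ext ?_
      show ((_ : GL I8 F) : Matrix I8 I8 F) = (((D4.rootEl (r : ℕ) t).1 : GL I8 E) : Matrix I8 I8 E).map f
      rw [D4.rootEl_val r.2, D4.rootEl_val r.2]
      ext i j
      simp [D4.nf, Matrix.one_apply, apply_ite f]
    | one =>
      rw [show (⟨1, Subgroup.one_mem _⟩ : ↥(chevD4.group E)) = 1 from rfl, map_one, map_one,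
        map_one, map_one]
    | mul a b ha hb iha ihb =>
      rw [show (⟨a * b, Subgroup.mul_mem _ ha hb⟩ : ↥(chevD4.group E)) = ⟨a, ha⟩ * ⟨b, hb⟩ from rfl,
        map_mul, map_mul, map_mul, map_mul, iha, ihb]
    | inv a ha iha =>
      rw [show (⟨a⁻¹, Subgroup.inv_mem _ ha⟩ : ↥(chevD4.group E)) = (⟨a, ha⟩)⁻¹ from rfl,
        map_inv, map_inv, map_inv, map_inv, iha]
  exact H g.1 g.2

end Cfsg.Agent.D4Nat
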