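import Cfsg.Agent.AltSec.D4Twist

/-!
The tori of `³D₄(2)`: certificates for the congruences of a semisimple element.
-/

set_option autoImplicit false
set_option maxRecDepth 100000
set_option maxHeartbeats 2000000

namespace Cfsg.Agent.D4Nat

open Cfsg.Lie Cfsg.Agent.Chev Cfsg.Agent.AltSec

/-- Permutation, row operations, divisors, column operations and their inverse. -/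
abbrev Cert : Type := List ℕ × List ℤ × List ℕ × List ℤ × List ℤ

/-- Some of the certificates. -/
def certs0 : List Cert := [
  ([0, 1, 2, 3, 4, 5, 6, 7, 8, 9, 10, 11, 12, 13, 14, 15, 16, 17, 18, 19, 20, 21, 22, 23], [1, 0, 0, 0, 0, -1, 0, 0, 2, 0, 1, 0, -4, 0, -2, -1], [1, 1, 1, 7], [0, 0, 0, 1, 0, 1, 0, 0, 1, 0, 0, 2, 0, 0, 1, 4], [-2, 0, 1, 0, 0, 1, 0, 0, -4, 0, 0, 1, 1, 0, 0, 0]),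
  ([0, 6, 7, 8, 9, 18, 1, 2, 3, 4, 10, 11, 12, 13, 19, 20, 21, 22, 5, 14, 15, 16, 17, 23], [1, 0, 0, 0, 0, -1, 0, 0, 2, 0, 1, 0, -4, 0, -2, -1], [1, 1, 1, 9], [0, 0, 0, 1, 0, 1, 0, 1, 1, 0, 0, 2, 0, 0, 1, 4], [-2, 0, 1, 0, -1, 1, 0, 0, -4, 0, 0, 1, 1, 0, 0, 0]),
  ([1, 0, 2, 3, 5, 4, 6, 10, 11, 14, 7, 8, 15, 16, 9, 12, 13, 17, 19, 18, 20, 21, 23, 22], [1, 0, 0, 0, -1, 0, 1, 0, 6, 3, 2, 1, 69, 35, 24, 12], [1, 1, 1, 21], [0, 0, 1, -2, 1, 0, -4, 7, 0, 0, 6, -11, 0, 1, 16, -29], [-2, 1, 1, 0, 2, 0, -3, 1, -11, 0, 2, 0, -6, 0, 1, 0]),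
  ([0, 3, 4, 1, 2, 5, 8, 9, 6, 7, 13, 11, 12, 10, 16, 17, 14, 15, 18, 21, 22, 19, 20, 23], [-1, 0, 0, 0, -1, -1, 0, 0, -2, 0, 1, 0, -4, 0, 2, 1], [1, 1, 1, 9], [0, 0, 0, 1, 0, 1, 0, -2, 1, 0, 0, -2, 0, 0, 1, -4], [2, 0, 1, 0, 2, 1, 0, 0, 4, 0, 0, 1, 1, 0, 0, 0]),
  ([0, 2, 1, 4, 3, 5, 7, 6, 9, 8, 10, 12, 11, 13, 15, 14, 17, 16, 18, 20, 19, 22, 21, 23], [1, 0, 0, 0, 0, -1, 0, 0, -2, 0, -1, 0, -4, 0, -2, 1], [1, 1, 1, 9], [0, 0, 0, 1, 0, 1, 1, -4, 1, 0, 0, 2, 0, 0, 1, -4], [-2, 0, 1, 0, 0, 1, 0, -1, 4, 0, 0, 1, 1, 0, 0, 0]),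
  ([1, 6, 10, 11, 14, 19, 0, 2, 3, 5, 7, 8, 15, 16, 18, 20, 21, 23, 4, 9, 12, 13, 17, 22], [1, 0, 0, 0, -1, 0, 1, 0, -1, 0, 2, 1, 1, -1, -6, -3], [1, 1, 1, 13], [0, 0, 1, 5, 1, 0, 2, 9, 0, 0, 0, 1, 0, 1, -2, -7], [-2, 1, 1, 0, 2, 0, -3, 1, 1, 0, -5, 0, 0, 0, 1, 0]),
  ([0, 8, 9, 6, 7, 18, 3, 4, 1, 2, 13, 11, 12, 10, 21, 22, 19, 20, 5, 16, 17, 14, 15, 23], [-1, 0, 0, 0, -1, -1, 0, 0, -2, 0, 1, 0, -4, 0, 2, 1], [1, 1, 1, 7], [0, 0, 0, 1, 0, 1, 0, -1, 1, 0, 0, -2, 0, 0, 1, -4], [2, 0, 1, 0, 1, 1, 0, 0, 4, 0, 0, 1, 1, 0, 0, 0]),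
  ([0, 7, 6, 9, 8, 18, 2, 1, 4, 3, 10, 12, 11, 13, 20, 19, 22, 21, 5, 15, 14, 17, 16, 23], [1, 0, 0, 0, 0, -1, 0, 0, -2, 0, -1, 0, -4, 0, -2, 1], [1, 1, 1, 7], [0, 0, 0, 1, 0, 1, 1, -3, 1, 0, 0, 2, 0, 0, 1, -4], [-2, 0, 1, 0, -1, 1, 0, -1, 4, 0, 0, 1, 1, 0, 0, 0]),
  ([6, 0, 7, 8, 18, 9, 1, 10, 11, 19, 2, 3, 20, 21, 4, 12, 13, 22, 14, 5, 15, 16, 23, 17], [-1, 0, 0, 0, 1, -1, 0, 0, 2, -1, 1, 0, 4, -2, 2, 1], [1, 1, 1, 13], [1, 1, 0, -3, 0, 0, 0, 1, 0, 1, 0, -4, 0, 0, 1, -6], [1, -1, -1, 0, 0, 4, 1, 0, 0, 6, 0, 1, 0, 1, 0, 0]),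
  ([3, 0, 4, 1, 5, 2, 8, 13, 11, 16, 9, 6, 17, 14, 7, 12, 10, 15, 21, 18, 22, 19, 23, 20], [1, 0, 0, 0, -3, -1, 0, 0, -4, -1, 1, 0, -6, -1, 2, 1], [1, 1, 1, 13], [0, 0, 0, 1, 1, 0, 0, 2, 0, 1, 0, -6, 0, 0, 1, -8], [-2, 1, 0, 0, 6, 0, 1, 0, 8, 0, 0, 1, 1, 0, 0, 0]),
  ([2, 0, 1, 4, 5, 3, 7, 10, 12, 15, 6, 9, 14, 17, 8, 11, 13, 16, 20, 18, 19, 22, 23, 21], [1, 0, 0, 0, 1, 0, -1, 0, -1, 0, 2, -1, 1, -1, -6, 2], [1, 1, 1, 13], [0, 0, 1, 5, 1, -1, 0, 2, 0, 0, 0, 1, 0, 1, 2, 7], [-2, 1, 1, 1, -2, 0, 3, 1, 1, 0, -5, 0, 0, 0, 1, 0]),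
  ([1, 3, 5, 0, 2, 4, 11, 14, 6, 10, 16, 8, 15, 7, 13, 17, 9, 12, 19, 21, 23, 18, 20, 22], [-1, 0, 0, 0, 1, 0, 1, 0, -2, 1, 0, 0, -7, 2, -2, -1], [1, 1, 1, 13], [0, 0, 1, -3, 1, 0, -1, 2, 0, 0, -1, 4, 0, 1, -1, 6], [2, 1, 1, 0, -2, 0, -3, 1, 4, 0, 3, 0, 1, 0, 1, 0]),
  ([0, 4, 3, 2, 1, 5, 9, 8, 7, 6, 13, 12, 11, 10, 17, 16, 15, 14, 18, 22, 21, 20, 19, 23], [-1, 0, 0, 0, -1, -1, 0, 0, 2, 0, -1, 0, -4, 0, 2, -1], [1, 1, 1, 7], [0, 0, 0, 1, 0, 1, 1, 2, 1, 0, 0, -2, 0, 0, 1, 4], [2, 0, 1, 0, 2, 1, 0, -1, -4, 0, 0, 1, 1, 0, 0, 0]),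
  ([1, 2, 0, 5, 3, 4, 10, 6, 14, 11, 7, 15, 8, 16, 12, 9, 17, 13, 19, 20, 18, 23, 21, 22], [1, 0, 0, 0, 2, 1, 0, 0, 3, 1, 1, 0, -6, -1, -3, 1], [1, 1, 1, 13], [0, 0, 0, 1, 1, 0, -1, -4, 0, 0, 1, 6, 0, 1, -2, -8], [-2, 1, 1, 0, -4, 0, 2, 1, -6, 0, 1, 0, 1, 0, 0, 0]),
  ([6, 1, 10, 11, 19, 14, 0, 7, 8, 18, 2, 3, 20, 21, 5, 15, 16, 23, 9, 4, 12, 13, 22, 17], [-1, 0, 0, 0, 1, -1, 0, 0, 2, -1, 1, 0, 4, -2, 2, 1], [1, 1, 1, 9], [1, 1, 0, -2, 0, 0, 0, 1, 0, 1, 0, -3, 0, 0, 1, -5], [1, -1, -1, 0, 0, 3, 1, 0, 0, 5, 0, 1, 0, 1, 0, 0]),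
  ([3, 8, 13, 11, 16, 21, 0, 4, 1, 5, 9, 6, 17, 14, 18, 22, 19, 23, 2, 7, 12, 10, 15, 20], [1, 0, 0, 0, 1, 0, -1, 0, 0, 1, 1, -1, -2, 2, 3, -3], [1, 1, 1, 9], [0, 0, -1, 3, 1, 0, -2, 6, 0, 1, -1, 4, 0, 0, 1, -2], [-2, 1, 0, 0, -2, 0, 1, -1, 2, 0, 0, 3, 1, 0, 0, 1])]

/-- Some of the certificates. -/
def certs1 : List Cert := [
  ([2, 7, 10, 12, 15, 20, 0, 1, 4, 5, 6, 9, 14, 17, 18, 19, 22, 23, 3, 8, 11, 13, 16, 21], [1, 0, 0, 0, 1, 0, -1, 0, 0, 1, 2, 0, -3, -7, -12, -1], [1, 1, 1, 21], [0, 0, 1, 4, 1, -1, 0, 2, 0, 0, 0, 1, 0, 1, 2, 5], [-2, 1, 1, 1, -2, 0, 3, 1, 1, 0, -4, 0, 0, 0, 1, 0]),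
  ([1, 11, 14, 6, 10, 19, 3, 5, 0, 2, 16, 8, 15, 7, 21, 23, 18, 20, 4, 13, 17, 9, 12, 22], [-1, 0, 0, 0, 1, 0, 1, 0, -1, 1, 0, 0, -3, 2, -2, -1], [1, 1, 1, 9], [0, 0, 1, -2, 1, 0, -1, 1, 0, 0, -1, 3, 0, 1, -1, 5], [2, 1, 1, 0, -2, 0, -3, 1, 3, 0, 2, 0, 1, 0, 1, 0]),
  ([0, 9, 8, 7, 6, 18, 4, 3, 2, 1, 13, 12, 11, 10, 22, 21, 20, 19, 5, 17, 16, 15, 14, 23], [-1, 0, 0, 0, -1, -1, 0, 0, 2, 0, -1, 0, -4, 0, 2, -1], [1, 1, 1, 9], [0, 0, 0, 1, 0, 1, 1, 3, 1, 0, 0, -2, 0, 0, 1, 4], [2, 0, 1, 0, 1, 1, 0, -1, -4, 0, 0, 1, 1, 0, 0, 0]),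
  ([1, 10, 6, 14, 11, 19, 2, 0, 5, 3, 7, 15, 8, 16, 20, 18, 23, 21, 4, 12, 9, 17, 13, 22], [1, 0, 0, 0, -1, -1, 0, 0, 2, 3, 0, -1, 7, 11, -1, -3], [1, 1, 1, 9], [0, 1, -1, 3, 1, 2, 0, 1, 0, 0, -2, 5, 0, 0, 1, -2], [-2, 1, 1, 0, 1, 0, -1, -1, 0, 0, 2, 5, 0, 0, 1, 2]),
  ([8, 0, 9, 6, 18, 7, 3, 13, 11, 21, 4, 1, 22, 19, 2, 12, 10, 20, 16, 5, 17, 14, 23, 15], [-1, 0, 0, 0, 1, -1, 0, 0, 2, -1, 1, 0, 3, -1, 2, 1], [1, 1, 1, 9], [1, 0, 0, 1, 0, 0, 0, 1, 0, 1, 0, -4, 0, 0, 1, -6], [1, -1, 0, 0, 0, 4, 1, 0, 0, 6, 0, 1, 0, 1, 0, 0]),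
  ([7, 0, 6, 9, 18, 8, 2, 10, 12, 20, 1, 4, 19, 22, 3, 11, 13, 21, 15, 5, 14, 17, 23, 16], [-1, 0, 0, 0, 1, -1, 0, 0, 0, 0, 0, 1, 2, -1, 1, -6], [1, 1, 1, 9], [1, 1, -3, -4, 0, 0, 1, 1, 0, 1, -4, -6, 0, 0, 0, 1], [1, -1, -1, -1, 0, 4, 1, 2, 0, 1, 0, -1, 0, 0, 0, 1]),
  ([3, 1, 5, 0, 4, 2, 11, 16, 8, 13, 14, 6, 17, 9, 10, 15, 7, 12, 21, 19, 23, 18, 22, 20], [-1, 0, 0, 0, 2, -1, 0, 0, 3, -1, 1, 0, -5, 1, -2, -1], [1, 1, 1, 9], [0, 0, 0, 1, 1, 0, 0, -2, 0, 1, 0, 4, 0, 0, 1, 6], [2, 1, 0, 0, -4, 0, 1, 0, -6, 0, 0, 1, 1, 0, 0, 0]),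
  ([4, 0, 3, 2, 5, 1, 9, 13, 12, 17, 8, 7, 16, 15, 6, 11, 10, 14, 22, 18, 21, 20, 23, 19], [1, 0, 0, 0, -3, -1, 0, 0, 4, 1, -1, 0, 14, 4, -3, 1], [1, 1, 1, 9], [0, 0, 1, -3, 1, 0, -1, 2, 0, 1, 0, 2, 0, 0, 3, -8], [-2, 1, 0, 1, 6, 0, 1, -2, -8, 0, 0, 3, -3, 0, 0, 1]),
  ([2, 1, 0, 5, 4, 3, 10, 7, 15, 12, 6, 14, 9, 17, 11, 8, 16, 13, 20, 19, 18, 23, 22, 21], [1, 0, 0, 0, 2, 1, 0, 0, -1, -1, 1, 0, -4, -5, 7, 1], [1, 1, 1, 9], [0, 0, 2, -3, 1, -1, -3, 4, 0, 0, 1, -2, 0, 1, 6, -8], [-2, 1, 1, 1, -4, 0, 2, 1, 2, 0, -3, 0, 1, 0, -2, 0]),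
  ([6, 8, 18, 0, 7, 9, 11, 19, 1, 10, 21, 3, 20, 2, 13, 22, 4, 12, 14, 16, 23, 5, 15, 17], [-1, 0, 0, 0, 1, 0, 1, 0, -3, 3, 2, 1, -29, 28, 18, 9], [1, 1, 1, 21], [0, 0, 1, -2, 1, 0, 2, -5, 0, 0, -5, 11, 0, 1, -13, 29], [3, 1, 1, 0, -2, 0, -3, 1, 11, 0, 2, 0, 5, 0, 1, 0]),
  ([2, 4, 5, 0, 1, 3, 12, 15, 7, 10, 17, 9, 14, 6, 13, 16, 8, 11, 20, 22, 23, 18, 19, 21], [-1, 0, 0, 0, -1, 0, -1, 0, 1, -2, -2, -1, -3, 5, 4, 3], [1, 1, 1, 9], [0, 0, 0, 1, 1, -1, 2, 6, 0, 0, 1, 3, 0, 1, -3, -11], [2, 1, 1, 1, 2, 0, 3, 1, -3, 0, 1, 0, 1, 0, 0, 0]),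
  ([1, 5, 3, 2, 0, 4, 14, 11, 10, 6, 16, 15, 8, 7, 17, 13, 12, 9, 19, 23, 21, 20, 18, 22], [-1, 0, 0, 0, -1, 1, 0, 0, -2, 1, 1, 0, -5, 1, 3, -1], [1, 1, 1, 9], [0, 0, 0, 1, 1, 0, -1, 2, 0, 0, 1, -4, 0, 1, -2, 6], [2, 1, 1, 0, 2, 0, 2, 1, 4, 0, 1, 0, 1, 0, 0, 0]),
  ([6, 7, 0, 18, 8, 9, 10, 1, 19, 11, 2, 20, 3, 21, 12, 4, 22, 13, 14, 15, 5, 23, 16, 17], [-1, 0, 0, 0, 0, 1, 0, 0, 1, -1, -1, 0, 3, -1, -3, 1], [1, 1, 1, 9], [1, 0, 0, 1, 0, 0, 1, -3, 0, 0, -1, 4, 0, 1, 2, -6], [1, -1, -1, 0, 0, -2, 0, 1, 0, 4, 3, 0, 0, 1, 1, 0]),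
  ([3, 4, 0, 5, 1, 2, 13, 8, 16, 11, 9, 17, 6, 14, 12, 7, 15, 10, 21, 22, 18, 23, 19, 20], [1, 0, 0, 0, 2, 1, 0, 0, 3, 2, 0, 1, -12, -7, -1, -3], [1, 1, 1, 21], [0, 0, 0, 1, 1, 0, 0, 2, 0, 0, 1, 5, 0, 1, 0, 4], [-2, 1, 0, 0, -4, 0, 0, 1, -5, 0, 1, 0, 1, 0, 0, 0]),
  ([8, 3, 13, 11, 21, 16, 0, 9, 6, 18, 4, 1, 22, 19, 5, 17, 14, 23, 7, 2, 12, 10, 20, 15], [-1, 0, 0, 0, -1, 0, -1, 0, 1, -1, 0, 0, 0, 1, 1, -1], [1, 1, 3, 3], [1, 0, 1, 0, 0, 0, 1, 0, 0, 1, 2, 1, 0, 0, 0, 1], [1, -1, 0, 0, 0, -2, 1, -1, 0, 1, 0, 0, 0, 0, 0, 1]),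
  ([7, 2, 10, 12, 20, 15, 0, 6, 9, 18, 1, 4, 19, 22, 5, 14, 17, 23, 8, 3, 11, 13, 21, 16], [-1, 0, 0, 0, 1, -1, 0, 0, 0, 0, 0, -1, -2, 1, -1, -5], [1, 1, 1, 13], [1, 1, -2, 6, 0, 0, 1, -3, 0, 1, -3, 8, 0, 0, 0, 1], [1, -1, -1, -1, 0, 3, 1, 1, 0, 1, 0, 3, 0, 0, 0, 1])]

/-- Some of the certificates. -/
def certs2 : List Cert := [
  ([3, 11, 16, 8, 13, 21, 1, 5, 0, 4, 14, 6, 17, 9, 19, 23, 18, 22, 2, 10, 15, 7, 12, 20], [-1, 0, 0, 0, -1, 0, -1, 0, -1, 1, 0, 0, 1, 1, 1, -1], [1, 1, 3, 3], [0, 0, 1, 0, 1, 0, -2, 0, 0, 1, -2, 1, 0, 0, 0, 1], [2, 1, 0, 0, 2, 0, 1, -1, 1, 0, 0, 0, 0, 0, 0, 1]),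
  ([4, 9, 13, 12, 17, 22, 0, 3, 2, 5, 8, 7, 16, 15, 18, 21, 20, 23, 1, 6, 11, 10, 14, 19], [1, 0, 0, 0, 1, 0, -1, 0, -2, 0, 1, -1, -6, -1, 2, -2], [1, 1, 1, 13], [0, 0, 0, 1, 1, 0, -1, 7, 0, 1, -1, 7, 0, 0, 1, -5], [-2, 1, 0, 1, -2, 0, 1, 1, 5, 0, 0, 1, 1, 0, 0, 0]),
  ([2, 10, 7, 15, 12, 20, 1, 0, 5, 4, 6, 14, 9, 17, 19, 18, 23, 22, 3, 11, 8, 16, 13, 21], [1, 0, 0, 0, -1, -1, 0, 0, 1, 2, -1, 0, 3, 7, -5, 1], [1, 1, 1, 13], [0, 1, 1, -2, 1, 2, 1, -2, 0, 0, 0, 1, 0, 0, 1, -3], [-2, 1, 1, 1, 1, 0, -1, -1, 0, 0, 3, 1, 0, 0, 1, 0]),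
  ([6, 11, 19, 1, 10, 14, 8, 18, 0, 7, 21, 3, 20, 2, 16, 23, 5, 15, 9, 13, 22, 4, 12, 17], [-1, 0, 0, 0, 1, 0, 1, 0, -1, 0, -2, -1, -2, -1, -6, -3], [1, 1, 1, 13], [0, 0, 1, -5, 1, 0, -3, 14, 0, 0, 0, 1, 0, 1, 2, -7], [3, 1, 1, 0, -2, 0, -3, 1, 1, 0, 5, 0, 0, 0, 1, 0]),
  ([2, 12, 15, 7, 10, 20, 4, 5, 0, 1, 17, 9, 14, 6, 22, 23, 18, 19, 3, 13, 16, 8, 11, 21], [-1, 0, 0, 0, -1, 0, -1, 0, -1, -1, -2, 0, -2, -5, -8, -1], [1, 1, 1, 13], [0, 0, 1, -4, 1, -1, 0, 2, 0, 0, 0, 1, 0, 1, -2, 5], [2, 1, 1, 1, 2, 0, 3, 1, 1, 0, 4, 0, 0, 0, 1, 0]),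
  ([1, 14, 11, 10, 6, 19, 5, 3, 2, 0, 16, 15, 8, 7, 23, 21, 20, 18, 4, 17, 13, 12, 9, 22], [-1, 0, 0, 0, 0, 1, 0, 0, 1, 2, -1, 0, 1, 1, 0, -1], [1, 1, 3, 3], [0, 1, -1, 0, 1, -2, 1, 1, 0, 0, 1, -1, 0, 0, 0, 1], [2, 1, 1, 0, 1, 0, 1, 1, 0, 0, 1, 1, 0, 0, 0, 1]),
  ([6, 10, 1, 19, 11, 14, 7, 0, 18, 8, 2, 20, 3, 21, 15, 5, 23, 16, 9, 12, 4, 22, 13, 17], [-1, 0, 0, 0, 0, -1, 0, 0, 1, 2, -1, 0, 0, 1, 0, -1], [1, 1, 3, 3], [1, 1, 1, 0, 0, 1, 0, 1, 0, 0, 1, -1, 0, 0, 0, 1], [1, -1, -1, 0, 0, 1, 0, -1, 0, 0, 1, 1, 0, 0, 0, 1]),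
  ([3, 13, 8, 16, 11, 21, 4, 0, 5, 1, 9, 17, 6, 14, 22, 18, 23, 19, 2, 12, 7, 15, 10, 20], [1, 0, 0, 0, -1, -1, 0, 0, 1, 2, -1, 0, 4, 9, -6, 1], [1, 1, 1, 13], [0, 1, 1, -2, 1, 2, 2, -4, 0, 0, -1, 3, 0, 0, 2, -5], [-2, 1, 0, 0, 1, 0, -1, -1, 0, 0, 5, 3, 0, 0, 2, 1]),
  ([11, 1, 14, 6, 19, 10, 3, 16, 8, 21, 5, 0, 23, 18, 2, 15, 7, 20, 13, 4, 17, 9, 22, 12], [-1, 0, 0, 0, 1, -1, 0, 0, 2, -1, 1, 0, 3, -1, 2, 1], [1, 1, 1, 7], [1, 0, 0, 0, 0, 0, 0, 1, 0, 1, 0, -3, 0, 0, 1, -5], [1, 0, 0, 0, 0, 3, 1, 0, 0, 5, 0, 1, 0, 1, 0, 0]),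
  ([9, 0, 8, 7, 18, 6, 4, 13, 12, 22, 3, 2, 21, 20, 1, 11, 10, 19, 17, 5, 16, 15, 23, 14], [-1, 0, 0, 0, 1, -1, 0, 0, 2, -1, 1, 0, 1, 0, 1, 1], [1, 1, 3, 3], [1, 0, 1, -1, 0, 0, 0, 1, 0, 1, -2, 0, 0, 0, 1, -2], [1, -1, 0, -1, 0, 4, 1, 2, 0, 2, 0, 1, 0, 1, 0, 0]),
  ([10, 1, 6, 14, 19, 11, 2, 7, 15, 20, 0, 5, 18, 23, 3, 8, 16, 21, 12, 4, 9, 17, 22, 13], [-1, 0, 0, 0, 1, -1, 0, 0, 0, 0, 0, -1, 2, -1, 1, 3], [1, 1, 1, 7], [1, 1, -1, -3, 0, 0, 0, 1, 0, 1, -2, -5, 0, 0, 1, 0], [1, -2, -1, -1, 0, 5, 1, 2, 0, 0, 0, 1, 0, 1, 0, 0]),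
  ([8, 6, 18, 0, 9, 7, 11, 21, 3, 13, 19, 1, 22, 4, 10, 20, 2, 12, 16, 14, 23, 5, 17, 15], [-1, 0, 0, 0, 2, -1, 0, 0, 3, -1, 1, 0, -5, 1, -2, -1], [1, 1, 1, 13], [0, 0, 0, 1, 1, 0, 0, -3, 0, 1, 0, 6, 0, 0, 1, 8], [3, 1, 0, 0, -6, 0, 1, 0, -8, 0, 0, 1, 1, 0, 0, 0]),
  ([4, 2, 5, 0, 3, 1, 12, 17, 9, 13, 15, 7, 16, 8, 10, 14, 6, 11, 22, 20, 23, 18, 21, 19], [-1, 0, 0, 0, 2, -1, 0, 0, -3, 1, -1, 0, -1, 1, 0, 1], [1, 1, 3, 3], [0, 0, 0, 1, 1, 0, -1, 0, 0, 1, 2, 0, 0, 0, 1, -2], [2, 1, 0, 1, -4, 0, 1, -2, 2, 0, 0, 1, 1, 0, 0, 0]),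
  ([5, 1, 3, 2, 4, 0, 14, 16, 15, 17, 11, 10, 13, 12, 6, 8, 7, 9, 23, 19, 21, 20, 22, 18], [1, 0, 0, 0, -1, -1, 0, 0, -2, -1, 0, -1, -5, -2, -1, -3], [1, 1, 1, 7], [0, 0, 0, 1, 0, 0, 1, -3, 0, 1, -3, 7, 1, 0, 0, 2], [-2, 0, 0, 1, 2, 3, 1, 0, 3, 1, 0, 0, 1, 0, 0, 0]),
  ([7, 6, 0, 18, 9, 8, 10, 2, 20, 12, 1, 19, 4, 22, 11, 3, 21, 13, 15, 14, 5, 23, 17, 16], [-1, 0, 0, 0, 0, -1, 0, 0, 1, 1, -1, 0, 0, -1, 0, 1], [1, 1, 3, 3], [1, 1, 1, -1, 0, 0, 0, 1, 0, 0, 1, 0, 0, 1, 0, -2], [1, -1, -1, -1, 0, 2, 0, 1, 0, 0, 1, 0, 0, 1, 0, 0]),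
  ([4, 3, 0, 5, 2, 1, 13, 9, 17, 12, 8, 16, 7, 15, 11, 6, 14, 10, 22, 21, 18, 23, 20, 19], [1, 0, 0, 0, 2, 1, 0, 0, 3, 2, 0, 1, -8, -5, -1, -3], [1, 1, 1, 13], [0, 0, 0, 1, 1, -1, 0, -2, 0, 0, 1, 5, 0, 1, 0, 4], [-2, 1, 0, 1, -4, 0, 0, 1, -5, 0, 1, 0, 1, 0, 0, 0])]

/-- Some of the certificates. -/
def certs3 : List Cert := [
  ([7, 9, 18, 0, 6, 8, 12, 20, 2, 10, 22, 4, 19, 1, 13, 21, 3, 11, 15, 17, 23, 5, 14, 16], [-1, 0, 0, 0, -1, 0, -1, 0, -1, 0, -2, 1, -2, -1, -6, 2], [1, 1, 1, 13], [0, 0, 1, -5, 1, -1, -1, 7, 0, 0, 0, 1, 0, 1, -2, 7], [3, 1, 1, 1, 2, 0, 3, 1, 1, 0, 5, 0, 0, 0, 1, 0]),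
  ([2, 5, 4, 1, 0, 3, 15, 12, 10, 7, 17, 14, 9, 6, 16, 13, 11, 8, 20, 23, 22, 19, 18, 21], [-1, 0, 0, 0, -1, 1, 0, 0, 0, 1, -1, 0, -1, 1, 1, 1], [1, 1, 3, 3], [0, 0, 0, 1, 1, -1, 1, 0, 0, 0, 1, 0, 0, 1, -2, -2], [2, 1, 1, 1, 2, 0, 2, 1, 0, 0, 1, 0, 1, 0, 0, 0]),
  ([6, 18, 8, 7, 0, 9, 19, 11, 10, 1, 21, 20, 3, 2, 22, 13, 12, 4, 14, 23, 16, 15, 5, 17], [-1, 0, 0, 0, -1, 1, 0, 0, -2, 1, 1, 0, -5, 1, 3, -1], [1, 1, 1, 13], [0, 0, 0, 1, 1, 0, -1, 3, 0, 0, 1, -6, 0, 1, -2, 8], [3, 1, 1, 0, 4, 0, 2, 1, 6, 0, 1, 0, 1, 0, 0, 0]),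
  ([3, 5, 1, 4, 0, 2, 16, 11, 13, 8, 14, 17, 6, 9, 15, 10, 12, 7, 21, 23, 19, 22, 18, 20], [-1, 0, 0, 0, -1, 1, 0, 0, -1, 2, 0, 1, -5, 7, 1, 3], [1, 1, 1, 13], [0, 0, 0, 1, 1, 0, 0, -2, 0, 0, 1, -3, 0, 1, 0, -2], [2, 1, 0, 0, 2, 0, 0, 1, 3, 0, 1, 0, 1, 0, 0, 0]),
  ([8, 9, 0, 18, 6, 7, 13, 3, 21, 11, 4, 22, 1, 19, 12, 2, 20, 10, 16, 17, 5, 23, 14, 15], [-1, 0, 0, 0, 0, 1, 0, 0, 0, 2, 0, 1, 1, -7, -1, -3], [1, 1, 1, 13], [1, 0, 0, 1, 0, 0, 0, 1, 0, 0, 1, 3, 0, 1, 0, 2], [1, -1, 0, 0, 0, -2, 0, 1, 0, -3, 1, 0, 0, 1, 0, 0]),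
  ([11, 3, 16, 8, 21, 13, 1, 14, 6, 19, 5, 0, 23, 18, 4, 17, 9, 22, 10, 2, 15, 7, 20, 12], [-1, 0, 0, 0, -1, 0, -1, 0, 1, 0, 1, -1, 4, -1, 3, -3], [1, 1, 1, 9], [1, 0, 0, 0, 0, 0, -1, 3, 0, 1, -1, 4, 0, 0, 1, -2], [1, 0, 0, 0, 0, -2, 1, -1, 0, 2, 0, 3, 0, 1, 0, 1]),
  ([9, 4, 13, 12, 22, 17, 0, 8, 7, 18, 3, 2, 21, 20, 5, 16, 15, 23, 6, 1, 11, 10, 19, 14], [-1, 0, 0, 0, 1, -1, 0, 0, 0, -1, -1, 0, 3, -4, -1, 1], [1, 1, 1, 9], [1, 1, 0, -2, 0, 0, 0, 1, 0, 0, 1, -1, 0, 1, 0, -3], [1, -1, 0, -1, 0, 3, 0, 1, 0, 1, 1, 0, 0, 1, 0, 0]),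
  ([10, 2, 7, 15, 20, 12, 1, 6, 14, 19, 0, 5, 18, 23, 4, 9, 17, 22, 11, 3, 8, 16, 21, 13], [-1, 0, 0, 0, 1, -1, 0, 0, 2, -1, 1, 0, 18, -9, 9, -1], [1, 1, 1, 21], [1, 1, -3, 6, 0, 0, 1, -2, 0, 1, -2, 3, 0, 0, -3, 7], [1, -2, -1, -1, 0, 5, 1, 1, 0, 7, 0, 2, 0, 3, 0, 1]),
  ([8, 11, 21, 3, 13, 16, 6, 18, 0, 9, 19, 1, 22, 4, 14, 23, 5, 17, 7, 10, 20, 2, 12, 15], [-1, 0, 0, 0, -1, 0, -1, 0, -1, -1, -1, 1, -5, -7, -6, 6], [1, 1, 1, 9], [0, 0, 2, -3, 1, 0, -6, 9, 0, 1, -3, 4, 0, 0, 1, -2], [3, 1, 0, 0, 2, 0, 1, -1, 2, 0, 0, -3, 1, 0, 0, -2]),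
  ([4, 12, 17, 9, 13, 22, 2, 5, 0, 3, 15, 7, 16, 8, 20, 23, 18, 21, 1, 10, 14, 6, 11, 19], [-1, 0, 0, 0, -1, 0, -1, 0, 2, 0, 1, -1, -5, 1, -2, 2], [1, 1, 1, 9], [0, 0, 0, 1, 1, 0, -1, -5, 0, 1, -1, -5, 0, 0, 1, 3], [2, 1, 0, 1, 2, 0, 1, 1, -3, 0, 0, 1, 1, 0, 0, 0]),
  ([5, 14, 16, 15, 17, 23, 1, 3, 2, 4, 11, 10, 13, 12, 19, 21, 20, 22, 0, 6, 8, 7, 9, 18], [1, 0, 0, 0, 0, -1, 0, 0, 0, 0, -1, 0, -3, 2, 1, -1], [1, 1, 1, 9], [0, 0, 0, 1, 0, 1, 0, 1, 0, 0, 1, 0, 1, 0, 0, 2], [-2, 0, 0, 1, -1, 1, 0, 0, 0, 0, 1, 0, 1, 0, 0, 0]),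
  ([7, 10, 2, 20, 12, 15, 6, 0, 18, 9, 1, 19, 4, 22, 14, 5, 23, 17, 8, 11, 3, 21, 13, 16], [-1, 0, 0, 0, 0, -1, 0, 0, 1, 2, -1, 0, 3, 5, -3, 1], [1, 1, 1, 9], [1, 1, 1, -2, 0, 1, 0, 0, 0, 0, 0, 1, 0, 0, 1, -3], [1, -1, -1, -1, 0, 1, 0, 0, 0, 0, 3, 1, 0, 0, 1, 0]),
  ([4, 13, 9, 17, 12, 22, 3, 0, 5, 2, 8, 16, 7, 15, 21, 18, 23, 20, 1, 11, 6, 14, 10, 19], [1, 0, 0, 0, -1, -1, 0, 0, 1, 2, -1, 0, 3, 7, -5, 1], [1, 1, 1, 21], [0, 1, 1, -4, 1, 2, 1, -3, 0, 0, 0, 1, 0, 0, 1, -5], [-2, 1, 0, 1, 1, 0, -1, -1, 0, 0, 5, 1, 0, 0, 1, 0]),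
  ([7, 12, 20, 2, 10, 15, 9, 18, 0, 6, 22, 4, 19, 1, 17, 23, 5, 14, 8, 13, 21, 3, 11, 16], [-1, 0, 0, 0, -1, 0, -1, 0, -1, -1, -2, 0, -4, -7, -12, -1], [1, 1, 1, 21], [0, 0, 1, -4, 1, -1, -1, 6, 0, 0, 0, 1, 0, 1, -2, 5], [3, 1, 1, 1, 2, 0, 3, 1, 1, 0, 4, 0, 0, 0, 1, 0]),
  ([2, 15, 12, 10, 7, 20, 5, 4, 1, 0, 17, 14, 9, 6, 23, 22, 19, 18, 3, 16, 13, 11, 8, 21], [-1, 0, 0, 0, 0, 1, 0, 0, 1, 2, -1, 0, 2, 5, -3, 1], [1, 1, 1, 9], [0, 1, -1, 2, 1, -2, 1, -2, 0, 0, 0, 1, 0, 0, 1, -3], [2, 1, 1, 1, 1, 0, 1, 1, 0, 0, 3, 1, 0, 0, 1, 0]),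
  ([6, 19, 11, 10, 1, 14, 18, 8, 7, 0, 21, 20, 3, 2, 23, 16, 15, 5, 9, 22, 13, 12, 4, 17], [-1, 0, 0, 0, 0, 1, 0, 0, 1, 3, 0, -1, 4, 11, -1, -3], [1, 1, 1, 9], [0, 1, 1, -3, 1, -3, -1, 4, 0, 0, -2, 5, 0, 0, 1, -2], [3, 1, 1, 0, 1, 0, 1, 1, 0, 0, 2, 5, 0, 0, 1, 2])]

/-- Some of the certificates. -/
def certs4 : List Cert := [
  ([3, 16, 11, 13, 8, 21, 5, 1, 4, 0, 14, 17, 6, 9, 23, 19, 22, 18, 2, 15, 10, 12, 7, 20], [-1, 0, 0, 0, 0, 1, 0, 0, 1, 1, 0, -1, 3, 4, -1, -2], [1, 1, 1, 9], [0, 1, 0, -1, 1, -2, 0, 2, 0, 0, -1, 3, 0, 0, 1, -2], [2, 1, 0, 0, 1, 0, 1, 1, 0, 0, 2, 3, 0, 0, 1, 1]),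
  ([8, 13, 3, 21, 11, 16, 9, 0, 18, 6, 4, 22, 1, 19, 17, 5, 23, 14, 7, 12, 2, 20, 10, 15], [-1, 0, 0, 0, 0, -1, 0, 0, 0, 1, 0, -1, 1, 4, -1, -2], [1, 1, 1, 9], [1, 1, 0, 1, 0, 1, 0, 1, 0, 0, -1, 3, 0, 0, 1, -2], [1, -1, 0, 0, 0, 1, -1, -1, 0, 0, 2, 3, 0, 0, 1, 1]),
  ([11, 6, 19, 1, 14, 10, 8, 21, 3, 16, 18, 0, 23, 5, 7, 20, 2, 15, 13, 9, 22, 4, 17, 12], [0, -1, 0, 0, 0, -1, 1, 0, 0, -1, 0, -1, -1, -9, -3, -12], [1, 1, 1, 21], [0, 1, -4, 7, 0, 0, 1, -2, 1, 0, -3, 6, 0, 0, -1, 3], [0, 3, 1, 0, 1, 5, 0, 1, 0, 3, 0, 2, 0, 1, 0, 1]),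
  ([12, 2, 15, 7, 20, 10, 4, 17, 9, 22, 5, 0, 23, 18, 1, 14, 6, 19, 13, 3, 16, 8, 21, 11], [-1, 0, 0, 0, 1, -1, 0, 0, 2, -1, 1, 0, 7, -4, 3, -1], [1, 1, 1, 9], [1, 0, 0, 0, 0, 0, 1, -2, 0, 1, -1, 1, 0, 0, -2, 5], [1, 0, 0, 0, 0, 3, 1, 1, 0, 5, 0, 2, 0, 2, 0, 1]),
  ([14, 1, 11, 10, 19, 6, 5, 16, 15, 23, 3, 2, 21, 20, 0, 8, 7, 18, 17, 4, 13, 12, 22, 9], [-1, 0, 0, 0, 1, -1, 0, 0, 2, -1, 1, 0, 5, -3, 2, -1], [1, 1, 1, 9], [1, 0, -1, 4, 0, 0, 1, -3, 0, 1, -1, 1, 0, 0, -2, 7], [1, -1, 0, -1, 0, 5, 1, 2, 0, 7, 0, 3, 0, 2, 0, 1]),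
  ([10, 6, 1, 19, 14, 11, 7, 2, 20, 15, 0, 18, 5, 23, 8, 3, 21, 16, 12, 9, 4, 22, 17, 13], [-1, 0, 0, 0, 0, -1, 0, 0, -1, -1, 1, 0, 3, 2, -3, 1], [1, 1, 1, 9], [1, 1, -1, -2, 0, 0, 1, 3, 0, 0, 0, 1, 0, 1, -3, -9], [1, -2, -1, -1, 0, 3, 0, 1, 0, 1, -3, 0, 0, 0, 1, 0]),
  ([13, 3, 8, 16, 21, 11, 4, 9, 17, 22, 0, 5, 18, 23, 1, 6, 14, 19, 12, 2, 7, 15, 20, 10], [-1, 0, 0, 0, -1, 0, -1, 0, 0, 0, 0, -1, 3, -1, 2, 4], [1, 1, 1, 9], [1, 1, 2, 4, 0, 0, 0, 1, 0, 1, 1, 2, 0, 0, 1, 0], [1, -2, -1, -1, 0, -2, 1, -1, 0, 0, 0, 1, 0, 1, 0, 0]),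
  ([9, 7, 18, 0, 8, 6, 12, 22, 4, 13, 20, 2, 21, 3, 10, 19, 1, 11, 17, 15, 23, 5, 16, 14], [-1, 0, 0, 0, 2, -1, 0, 0, -3, 1, -1, 0, -10, 4, -3, 1], [1, 1, 1, 9], [0, 0, -1, 3, 1, 0, 0, -1, 0, 1, 0, 2, 0, 0, 3, -8], [3, 1, 0, 1, -6, 0, 1, -2, 8, 0, 0, 3, 3, 0, 0, 1]),
  ([5, 2, 4, 1, 3, 0, 15, 17, 14, 16, 12, 10, 13, 11, 7, 9, 6, 8, 23, 20, 22, 19, 21, 18], [-1, 0, 0, 0, 0, -1, 0, 0, 1, -1, 0, -1, -3, 2, 1, 3], [1, 1, 1, 9], [0, 0, 0, 1, 0, 0, 1, 3, 0, 1, -3, -9, 1, 0, 0, -2], [2, 0, 0, 1, 0, 3, 1, 0, -3, 1, 0, 0, 1, 0, 0, 0]),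
  ([18, 6, 8, 7, 9, 0, 19, 21, 20, 22, 11, 10, 13, 12, 1, 3, 2, 4, 23, 14, 16, 15, 17, 5], [1, 0, 0, 0, -1, -1, 0, 0, -2, -1, 0, -1, -5, -2, -1, -3], [1, 1, 1, 9], [0, 0, 0, 1, 0, 0, 1, -4, 0, 1, -3, 9, 1, 0, 0, 2], [-2, 0, 0, 1, 3, 3, 1, 0, 4, 1, 0, 0, 1, 0, 0, 0]),
  ([5, 3, 1, 4, 2, 0, 16, 14, 17, 15, 11, 13, 10, 12, 8, 6, 9, 7, 23, 21, 19, 22, 20, 18], [1, 0, 0, 0, 1, 0, 0, 1, -1, -1, 0, 0, -12, -9, -1, -3], [1, 1, 1, 21], [0, 0, -1, 3, 0, 0, 1, -2, 0, 1, -3, 7, 1, 0, -2, 6], [-2, 0, 0, 1, -1, 2, 1, 0, 2, 3, 0, 0, 1, 1, 0, 0]),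
  ([9, 8, 0, 18, 7, 6, 13, 4, 22, 12, 3, 21, 2, 20, 11, 1, 19, 10, 17, 16, 5, 23, 15, 14], [-1, 0, 0, 0, 0, -1, 0, 0, 0, -1, 0, 1, -1, -4, 1, 3], [1, 1, 1, 9], [1, 1, 0, -1, 0, 0, 0, 1, 0, 0, 1, -3, 0, 1, 0, -2], [1, -1, 0, -1, 0, 2, 0, 1, 0, 3, 1, 0, 0, 1, 0, 0]),
  ([10, 14, 19, 1, 6, 11, 15, 20, 2, 7, 23, 5, 18, 0, 16, 21, 3, 8, 12, 17, 22, 4, 9, 13], [-1, 0, 0, 0, -1, -1, 0, 0, 0, 2, 1, 0, -1, -7, -3, 1], [1, 1, 1, 9], [0, 0, 1, 2, 0, 0, 0, 1, 1, -1, 0, 1, 0, 1, -3, -9], [3, 2, 1, 1, 3, 3, 0, 1, 1, -2, 0, 0, 0, 1, 0, 0]),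
  ([7, 18, 9, 6, 0, 8, 20, 12, 10, 2, 22, 19, 4, 1, 21, 13, 11, 3, 15, 23, 17, 14, 5, 16], [-1, 0, 0, 0, -1, 1, 0, 0, 0, 1, -1, 0, -1, 4, -2, 1], [1, 1, 1, 9], [0, 0, -1, 3, 1, -1, 0, 1, 0, 0, 1, -2, 0, 1, 2, -8], [3, 1, 1, 1, 4, 0, 2, 1, 2, 0, 3, 0, 1, 0, 1, 0]),
  ([4, 5, 2, 3, 0, 1, 17, 12, 13, 9, 15, 16, 7, 8, 14, 10, 11, 6, 22, 23, 20, 21, 18, 19], [-1, 0, 0, 0, -1, 1, 0, 0, -1, 2, 0, 1, -3, 5, 1, 3], [1, 1, 1, 9], [0, 0, 0, 1, 1, -1, 0, 0, 0, 0, 1, -3, 0, 1, 0, -2], [2, 1, 0, 1, 2, 0, 0, 1, 3, 0, 1, 0, 1, 0, 0, 0]),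
  ([8, 18, 6, 9, 0, 7, 21, 11, 13, 3, 19, 22, 1, 4, 20, 10, 12, 2, 16, 23, 14, 17, 5, 15], [-1, 0, 0, 0, -1, 1, 0, 0, -1, 2, 0, 1, -5, 7, 1, 3], [1, 1, 1, 21], [0, 0, 0, 1, 1, 0, 0, -3, 0, 0, 1, -5, 0, 1, 0, -4], [3, 1, 0, 0, 4, 0, 0, 1, 5, 0, 1, 0, 1, 0, 0, 0])]

/-- Some of the certificates. -/
def certs5 : List Cert := [
  ([11, 14, 1, 19, 6, 10, 16, 3, 21, 8, 5, 23, 0, 18, 15, 2, 20, 7, 13, 17, 4, 22, 9, 12], [-1, 0, 0, 0, 0, -1, 0, 0, 0, 0, 0, 1, 1, 2, -1, -3], [1, 1, 1, 9], [1, 0, 0, 0, 0, 1, 0, 1, 0, 0, 1, 2, 0, 0, 0, 1], [1, 0, 0, 0, 0, 1, 0, -1, 0, 0, 1, -2, 0, 0, 0, 1]),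
  ([11, 8, 21, 3, 16, 13, 6, 19, 1, 14, 18, 0, 23, 5, 9, 22, 4, 17, 10, 7, 20, 2, 15, 12], [0, 0, 1, 0, 0, 0, 0, -1, 0, -1, 0, 0, 1, 2, 3, -3], [1, 1, 3, 9], [1, 1, -2, -3, 0, 0, 1, 0, 0, 1, 0, -2, 0, 0, 0, 1], [1, 2, -1, 1, 0, 0, 1, 2, 0, 1, 0, 0, 0, 0, 0, 1]),
  ([12, 4, 17, 9, 22, 13, 2, 15, 7, 20, 5, 0, 23, 18, 3, 16, 8, 21, 10, 1, 14, 6, 19, 11], [-1, 0, 0, 0, 1, -1, 0, 0, 0, -1, -1, 0, 2, -3, -1, 1], [1, 1, 1, 7], [1, 0, 0, 0, 0, 0, 0, 1, 0, 0, 1, -1, 0, 1, 0, -3], [1, 0, 0, 0, 0, 3, 0, 1, 0, 1, 1, 0, 0, 1, 0, 0]),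
  ([14, 5, 16, 15, 23, 17, 1, 11, 10, 19, 3, 2, 21, 20, 4, 13, 12, 22, 6, 0, 8, 7, 18, 9], [-1, 0, 0, 0, 1, -1, 0, 0, 0, -1, -1, 0, 3, -4, -1, 1], [1, 1, 1, 13], [1, 1, 0, -3, 0, 0, 0, 1, 0, 0, 1, -2, 0, 1, 0, -4], [1, -1, 0, -1, 0, 4, 0, 1, 0, 2, 1, 0, 0, 1, 0, 0]),
  ([10, 7, 2, 20, 15, 12, 6, 1, 19, 14, 0, 18, 5, 23, 9, 4, 22, 17, 11, 8, 3, 21, 16, 13], [-1, 0, 0, 0, 1, 0, -1, 0, 0, -1, 0, 0, 3, 2, -3, 1], [1, 1, 3, 9], [1, 1, 0, -2, 0, 0, 1, 0, 0, 0, 0, 1, 0, 1, -2, -3], [1, -2, -1, -1, 0, 2, 3, 1, 0, 1, 0, 0, 0, 0, 1, 0]),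
  ([13, 4, 9, 17, 22, 12, 3, 8, 16, 21, 0, 5, 18, 23, 2, 7, 15, 20, 11, 1, 6, 14, 19, 10], [-1, 0, 0, 0, 1, -1, 0, 0, 0, -1, -1, 0, 3, -1, 2, 1], [1, 1, 3, 9], [1, 1, -1, -2, 0, 0, 0, 1, 0, 0, 1, -1, 0, 1, -2, -3], [1, -2, -1, -1, 0, 5, 2, 1, 0, 1, 1, 0, 0, 1, 0, 0]),
  ([9, 12, 22, 4, 13, 17, 7, 18, 0, 8, 20, 2, 21, 3, 15, 23, 5, 16, 6, 10, 19, 1, 11, 14], [-1, 0, 0, 0, -1, 0, -1, 0, 2, 0, 1, -1, -5, 1, -2, 2], [1, 1, 1, 13], [0, 0, 0, 1, 1, 0, -1, -8, 0, 1, -1, -7, 0, 0, 1, 5], [3, 1, 0, 1, 2, 0, 1, 1, -5, 0, 0, 1, 1, 0, 0, 0]),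
  ([5, 15, 17, 14, 16, 23, 2, 4, 1, 3, 12, 10, 13, 11, 20, 22, 19, 21, 0, 7, 9, 6, 8, 18], [-1, 0, 0, 0, -1, -1, 0, 0, 0, 0, -1, 0, -5, -2, -1, 1], [1, 1, 1, 7], [0, 0, 0, 1, 0, 1, 0, -1, 0, 0, 1, 0, 1, 0, 0, -2], [2, 0, 0, 1, 1, 1, 0, 0, 0, 0, 1, 0, 1, 0, 0, 0]),
  ([18, 19, 21, 20, 22, 23, 6, 8, 7, 9, 11, 10, 13, 12, 14, 16, 15, 17, 0, 1, 3, 2, 4, 5], [1, 0, 0, 0, 0, -1, 0, 0, 0, 0, -1, 0, -3, 2, 1, -1], [1, 1, 1, 7], [0, 0, 0, 1, 0, 1, 0, 0, 0, 0, 1, 0, 1, 0, 0, 2], [-2, 0, 0, 1, 0, 1, 0, 0, 0, 0, 1, 0, 1, 0, 0, 0]),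
  ([5, 16, 14, 17, 15, 23, 3, 1, 4, 2, 11, 13, 10, 12, 21, 19, 22, 20, 0, 8, 6, 9, 7, 18], [1, 0, 0, 0, 0, -1, 0, 0, 0, 0, -1, 0, -3, 2, 1, -1], [1, 1, 3, 9], [0, 0, 0, 1, 0, 1, 1, 1, 0, 0, 1, 0, 1, 0, 0, 2], [-2, 0, 0, 1, -1, 1, -1, 0, 0, 0, 1, 0, 1, 0, 0, 0]),
  ([9, 13, 4, 22, 12, 17, 8, 0, 18, 7, 3, 21, 2, 20, 16, 5, 23, 15, 6, 11, 1, 19, 10, 14], [-1, 0, 0, 0, 0, -1, 0, 0, 1, 2, -1, 0, 3, 5, -3, 1], [1, 1, 1, 13], [1, 1, 1, -4, 0, 1, 0, 1, 0, 0, 0, 1, 0, 0, 1, -5], [1, -1, 0, -1, 0, 1, -1, 0, 0, 0, 5, 1, 0, 0, 1, 0]),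
  ([10, 15, 20, 2, 7, 12, 14, 19, 1, 6, 23, 5, 18, 0, 17, 22, 4, 9, 11, 16, 21, 3, 8, 13], [-1, 0, 0, 0, -2, 0, 1, 0, 5, -1, -3, 0, -8, -2, 3, -1], [1, 1, 3, 9], [0, 1, 0, -2, 0, 0, 1, 2, 1, 0, 0, -1, 0, -3, -2, 3], [3, 2, 1, 1, 7, 4, 0, 2, -6, -3, 0, -2, 3, 2, 0, 1]),
  ([7, 20, 12, 10, 2, 15, 18, 9, 6, 0, 22, 19, 4, 1, 23, 17, 14, 5, 8, 21, 13, 11, 3, 16], [-1, 0, 0, 0, 0, 1, 0, 0, 1, 2, -1, 0, 4, 7, -5, 1], [1, 1, 1, 13], [0, 1, -1, 2, 1, -3, 2, -4, 0, 0, 0, 1, 0, 0, 1, -3], [3, 1, 1, 1, 1, 0, 1, 1, 0, 0, 3, 1, 0, 0, 1, 0]),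
  ([4, 17, 12, 13, 9, 22, 5, 2, 3, 0, 15, 16, 7, 8, 23, 20, 21, 18, 1, 14, 10, 11, 6, 19], [-1, 0, 0, 0, 0, 1, 0, 0, 1, 2, -1, 0, 2, 5, -3, 1], [1, 1, 1, 13], [0, 1, -1, 4, 1, -2, 1, -3, 0, 0, 0, 1, 0, 0, 1, -5], [2, 1, 0, 1, 1, 0, 1, 1, 0, 0, 5, 1, 0, 0, 1, 0]),
  ([8, 21, 11, 13, 3, 16, 18, 6, 9, 0, 19, 22, 1, 4, 23, 14, 17, 5, 7, 20, 10, 12, 2, 15], [-1, 0, 0, 0, 0, 1, 0, 0, 1, 2, -1, 0, 5, 9, -6, 1], [1, 1, 1, 13], [0, 1, -1, 2, 1, -3, 3, -6, 0, 0, -1, 3, 0, 0, 2, -5], [3, 1, 0, 0, 1, 0, 1, 1, 0, 0, 5, 3, 0, 0, 2, 1]),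
  ([11, 16, 3, 21, 8, 13, 14, 1, 19, 6, 5, 23, 0, 18, 17, 4, 22, 9, 10, 15, 2, 20, 7, 12], [-1, 0, 0, 0, 0, -1, 0, 0, 0, 0, 0, -1, -1, -2, 1, -5], [1, 1, 1, 7], [1, 0, 0, 0, 0, 1, 1, -1, 0, 0, 1, -2, 0, 0, 0, 1], [1, 0, 0, 0, 0, 1, -1, -1, 0, 0, 1, 2, 0, 0, 0, 1])]

/-- Some of the certificates. -/
def certs6 : List Cert := [
  ([12, 7, 20, 2, 15, 10, 9, 22, 4, 17, 18, 0, 23, 5, 6, 19, 1, 14, 13, 8, 21, 3, 16, 11], [0, -1, 0, 0, 0, -1, 1, 0, 0, -1, 0, -1, -1, -2, -3, -5], [1, 1, 3, 9], [0, 1, -5, 3, 0, 0, 1, -1, 1, 0, -3, 2, 0, 0, 0, 1], [0, 3, 1, 1, 1, 5, 0, 2, 0, 1, 0, 1, 0, 0, 0, 1]),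
  ([15, 2, 12, 10, 20, 7, 5, 17, 14, 23, 4, 1, 22, 19, 0, 9, 6, 18, 16, 3, 13, 11, 21, 8], [-1, 0, 0, 0, 1, -1, 0, 0, 2, -1, 1, 0, 11, -6, 5, -1], [1, 1, 1, 13], [1, 0, 1, -2, 0, 0, 1, -2, 0, 1, -2, 3, 0, 0, -3, 7], [1, -1, 0, 0, 0, 5, 1, 1, 0, 7, 0, 2, 0, 3, 0, 1]),
  ([19, 6, 11, 10, 14, 1, 18, 21, 20, 23, 8, 7, 16, 15, 0, 3, 2, 5, 22, 9, 13, 12, 17, 4], [1, 0, 0, 0, -4, -1, 0, 0, 3, 1, 0, 1, -7, -3, -1, -4], [1, 1, 1, 13], [0, 0, 0, 1, 1, 0, -1, -4, 0, 1, 3, 9, 0, 0, 1, 6], [-2, 1, 0, 1, 9, 0, 1, -3, -6, 0, 0, 1, 1, 0, 0, 0]),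
  ([16, 3, 11, 13, 21, 8, 5, 14, 17, 23, 1, 4, 19, 22, 0, 6, 9, 18, 15, 2, 10, 12, 20, 7], [-1, 0, 0, 0, -1, 0, -1, 0, 0, 0, 0, 1, 3, -1, 2, -9], [1, 1, 1, 13], [1, 1, 3, 5, 0, 0, 1, 1, 0, 1, 2, 3, 0, 0, 0, 1], [1, -1, -1, -1, 0, -2, 1, -1, 0, 1, 0, -1, 0, 0, 0, 1]),
  ([13, 8, 3, 21, 16, 11, 9, 4, 22, 17, 0, 18, 5, 23, 6, 1, 19, 14, 12, 7, 2, 20, 15, 10], [-1, 0, 0, 0, 0, -1, 0, 0, 0, 0, 0, -1, -1, -3, 1, 2], [1, 1, 1, 7], [1, 1, 0, -1, 0, 0, 0, 1, 0, 1, -1, -3, 0, 0, 1, 0], [1, -2, -1, -1, 0, 3, 1, 1, 0, 0, 0, 1, 0, 1, 0, 0]),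
  ([14, 10, 19, 1, 11, 6, 15, 23, 5, 16, 20, 2, 21, 3, 7, 18, 0, 8, 17, 12, 22, 4, 13, 9], [-1, 0, 0, 0, 3, -1, 0, 0, -2, 1, 0, 1, -4, 3, 1, 4], [1, 1, 1, 13], [0, 0, 0, 1, 1, 0, -1, 3, 0, 1, 3, -9, 0, 0, 1, -6], [3, 1, 0, 1, -9, 0, 1, -3, 6, 0, 0, 1, 1, 0, 0, 0]),
  ([18, 7, 9, 6, 8, 0, 20, 22, 19, 21, 12, 10, 13, 11, 2, 4, 1, 3, 23, 15, 17, 14, 16, 5], [-1, 0, 0, 0, 0, -1, 0, 0, 0, -1, 1, 0, 1, -3, 2, -1], [1, 1, 1, 7], [0, 0, 1, -3, 0, 0, 0, 1, 0, 1, -1, 0, 1, 0, -2, 6], [2, 0, 0, 1, 1, 3, 1, 0, 1, 3, 0, 0, 0, 1, 0, 0]),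
  ([5, 4, 2, 3, 1, 0, 17, 15, 16, 14, 12, 13, 10, 11, 9, 7, 8, 6, 23, 22, 20, 21, 19, 18], [-1, 0, 0, 0, -1, 0, 0, 1, 0, -1, 0, 0, -3, 2, 1, 3], [1, 1, 3, 9], [0, 0, 0, 1, 0, 0, 1, 0, 0, 1, -2, -3, 1, 0, 0, -2], [2, 0, 0, 1, 3, 2, 1, 0, 0, 1, 0, 0, 1, 0, 0, 0]),
  ([18, 8, 6, 9, 7, 0, 21, 19, 22, 20, 11, 13, 10, 12, 3, 1, 4, 2, 23, 16, 14, 17, 15, 5], [1, 0, 0, 0, 1, 0, 0, 1, -3, 0, -1, -3, 2, -1, 1, 3], [1, 1, 3, 9], [0, 0, 1, 2, 0, 0, 0, 1, 0, 1, 1, 0, 1, 0, 2, 4], [-2, 0, 0, 1, -1, 2, 1, 0, 1, -2, 0, 0, 0, 1, 0, 0]),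
  ([14, 11, 1, 19, 10, 6, 16, 5, 23, 15, 3, 21, 2, 20, 8, 0, 18, 7, 17, 13, 4, 22, 12, 9], [-1, 0, 0, 0, 0, -1, 0, 0, -1, -1, 1, 0, 4, 3, -4, 1], [1, 1, 1, 13], [1, 1, -2, -6, 0, 0, 1, 3, 0, 0, 0, 1, 0, 1, -3, -9], [1, -1, 0, -1, 0, 3, 0, 1, 0, 1, -3, 0, 0, 0, 1, 0]),
  ([10, 19, 14, 6, 1, 11, 20, 15, 7, 2, 23, 18, 5, 0, 21, 16, 8, 3, 12, 22, 17, 9, 4, 13], [-1, 0, 0, 0, -1, -1, 0, 0, 0, 2, 1, 0, -1, -5, -2, 1], [1, 1, 1, 7], [0, 0, 1, 2, 0, 0, 0, 1, 1, -1, -1, -1, 0, 1, -2, -7], [3, 2, 1, 1, 2, 3, 0, 1, 1, -2, 0, 0, 0, 1, 0, 0]),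
  ([13, 16, 21, 3, 8, 11, 17, 22, 4, 9, 23, 5, 18, 0, 14, 19, 1, 6, 12, 15, 20, 2, 7, 10], [-1, 0, 0, 0, 0, -1, 0, 0, 0, 0, 0, -1, -2, 4, 1, 2], [1, 1, 1, 7], [0, 0, 0, 1, 0, 1, 0, 0, 1, -2, -1, -3, 0, 0, 1, 0], [3, 2, 1, 1, 0, 1, 0, 0, 0, 0, 0, 1, 1, 0, 0, 0]),
  ([9, 18, 7, 8, 0, 6, 22, 12, 13, 4, 20, 21, 2, 3, 19, 10, 11, 1, 17, 23, 15, 16, 5, 14], [-1, 0, 0, 0, -1, 1, 0, 0, -1, 2, 0, 1, -3, 5, 1, 3], [1, 1, 1, 13], [0, 0, 0, 1, 1, -1, 0, 1, 0, 0, 1, -5, 0, 1, 0, -4], [3, 1, 0, 1, 4, 0, 0, 1, 5, 0, 1, 0, 1, 0, 0, 0]),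
  ([11, 19, 6, 14, 1, 10, 21, 8, 16, 3, 18, 23, 0, 5, 20, 7, 15, 2, 13, 22, 9, 17, 4, 12], [0, 1, 0, 0, 0, 0, 0, 1, 0, -1, -1, -3, 1, 2, -1, -3], [1, 1, 3, 9], [1, 0, 1, -3, 0, 0, 1, -2, 0, 1, 0, 2, 0, 0, 0, 1], [1, -1, 0, 1, 0, 0, 1, -2, 0, 1, 0, 2, 0, 0, 0, 1]),
  ([12, 15, 2, 20, 7, 10, 17, 4, 22, 9, 5, 23, 0, 18, 14, 1, 19, 6, 13, 16, 3, 21, 8, 11], [-1, 0, 0, 0, 0, -1, 0, 0, 1, 2, -1, 0, 2, 4, -2, 1], [1, 1, 1, 7], [1, 0, 0, 0, 0, 1, 0, 0, 0, 0, 0, 1, 0, 0, 1, -3], [1, 0, 0, 0, 0, 1, 0, 0, 0, 0, 3, 1, 0, 0, 1, 0]),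
  ([12, 9, 22, 4, 17, 13, 7, 20, 2, 15, 18, 0, 23, 5, 8, 21, 3, 16, 10, 6, 19, 1, 14, 11], [0, -1, 0, 0, 0, -1, -1, 0, -3, -4, -6, -1, -19, -24, -36, -6], [1, 1, 1, 21], [0, 0, -2, 7, 0, 1, -3, 10, 0, 0, 1, -3, 1, -3, 9, -30], [0, 3, 0, 1, -1, 1, 1, 0, 3, 0, 7, 0, 1, 0, 2, 0])]

/-- Some of the certificates. -/
def certs7 : List Cert := [
  ([15, 5, 17, 14, 23, 16, 2, 12, 10, 20, 4, 1, 22, 19, 3, 13, 11, 21, 7, 0, 9, 6, 18, 8], [-1, 0, 0, 0, 1, -1, 0, 0, 0, -1, -1, 0, 2, -3, -1, 1], [1, 1, 1, 9], [1, 0, 0, 1, 0, 0, 0, 1, 0, 0, 1, -2, 0, 1, 0, -4], [1, -1, 0, 0, 0, 4, 0, 1, 0, 2, 1, 0, 0, 1, 0, 0]),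
  ([19, 18, 21, 20, 23, 22, 6, 11, 10, 14, 8, 7, 16, 15, 9, 13, 12, 17, 1, 0, 3, 2, 5, 4], [1, 0, 0, 0, 1, 0, -1, 0, -2, 0, 1, -1, -9, -1, 3, -3], [1, 1, 1, 21], [0, 0, 0, 1, 1, 0, -1, 7, 0, 1, -1, 7, 0, 0, 1, -5], [-2, 1, 0, 1, -2, 0, 1, 1, 5, 0, 0, 1, 1, 0, 0, 0]),
  ([16, 5, 14, 17, 23, 15, 3, 11, 13, 21, 1, 4, 19, 22, 2, 10, 12, 20, 8, 0, 6, 9, 18, 7], [-1, 0, 0, 0, 1, -1, 0, 0, 0, -1, -1, 0, 3, -8, -5, 1], [1, 1, 1, 21], [1, 1, 2, -7, 0, 0, -1, 3, 0, 0, 1, -2, 0, 1, 2, -8], [1, -1, -1, -1, 0, 4, 2, 1, 0, 2, 3, 0, 0, 1, 1, 0]),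
  ([13, 9, 4, 22, 17, 12, 8, 3, 21, 16, 0, 18, 5, 23, 7, 2, 20, 15, 11, 6, 1, 19, 14, 10], [-1, 0, 0, 0, 0, -1, 0, 0, 1, 3, -1, 0, -3, -9, 3, -1], [1, 1, 1, 21], [1, 1, 1, 6, 0, 0, 0, 1, 0, 1, 0, -3, 0, 0, 1, 7], [1, -2, -1, -1, 0, 3, 1, 0, 0, -7, 0, 1, 0, 1, 0, 0]),
  ([14, 15, 23, 5, 16, 17, 10, 19, 1, 11, 20, 2, 21, 3, 12, 22, 4, 13, 6, 7, 18, 0, 8, 9], [-1, 0, 0, 0, -1, 0, -1, 0, 2, 0, 1, -1, -8, 1, -3, 3], [1, 1, 1, 21], [0, 0, 0, 1, 1, 0, -1, -8, 0, 1, -1, -7, 0, 0, 1, 5], [3, 1, 0, 1, 2, 0, 1, 1, -5, 0, 0, 1, 1, 0, 0, 0]),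
  ([18, 20, 22, 19, 21, 23, 7, 9, 6, 8, 12, 10, 13, 11, 15, 17, 14, 16, 0, 2, 4, 1, 3, 5], [-1, 0, 0, 0, -1, -1, 0, 0, 0, 0, -1, 0, -5, -2, -1, 1], [1, 1, 1, 9], [0, 0, 0, 1, 0, 1, 0, -2, 0, 0, 1, 0, 1, 0, 0, -2], [2, 0, 0, 1, 2, 1, 0, 0, 0, 0, 1, 0, 1, 0, 0, 0]),
  ([5, 17, 15, 16, 14, 23, 4, 2, 3, 1, 12, 13, 10, 11, 22, 20, 21, 19, 0, 9, 7, 8, 6, 18], [-1, 0, 0, 0, -1, -1, 0, 0, 5, 2, 0, -1, 30, 12, -1, -6], [1, 1, 1, 21], [0, 0, -1, 3, 0, 1, -1, 4, 0, 0, -2, 7, 1, 0, 2, -6], [2, 0, 0, 1, 1, 1, -1, 0, -7, 0, 3, 0, -2, 0, 1, 0]),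
  ([18, 21, 19, 22, 20, 23, 8, 6, 9, 7, 11, 13, 10, 12, 16, 14, 17, 15, 0, 3, 1, 4, 2, 5], [1, 0, 0, 0, 0, -1, 0, 0, -3, 2, 0, -1, -18, 12, -1, -6], [1, 1, 1, 21], [0, 0, 1, -3, 0, 1, -2, 7, 0, 0, -2, 7, 1, 0, 2, -6], [-2, 0, 0, 1, 0, 1, -1, 0, 7, 0, 3, 0, 2, 0, 1, 0]),
  ([14, 16, 5, 23, 15, 17, 11, 1, 19, 10, 3, 21, 2, 20, 13, 4, 22, 12, 6, 8, 0, 18, 7, 9], [-1, 0, 0, 0, 0, 1, 0, 0, 1, -3, -1, 0, 3, -8, -3, 1], [1, 1, 1, 21], [1, 0, 1, -7, 0, 0, 0, 1, 0, 1, 0, 2, 0, 0, 1, -8], [1, -1, 0, -1, 0, -2, 1, 0, 0, 8, 0, 1, 0, 1, 0, 0]),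
  ([10, 20, 15, 7, 2, 12, 19, 14, 6, 1, 23, 18, 5, 0, 22, 17, 9, 4, 11, 21, 16, 8, 3, 13], [-1, 0, 0, 0, -1, -1, 0, 0, -3, -1, 1, 0, -27, -9, 9, -1], [1, 1, 1, 21], [0, -1, 3, -6, 0, 1, -2, 4, 1, 1, -2, 3, 0, 0, -3, 7], [3, 2, 1, 1, 2, 3, 0, 0, 7, 7, 0, 2, 3, 3, 0, 1]),
  ([13, 17, 22, 4, 9, 12, 16, 21, 3, 8, 23, 5, 18, 0, 15, 20, 2, 7, 11, 14, 19, 1, 6, 10], [-1, 0, 0, 0, 0, -1, 0, 0, 2, -4, -1, -3, 12, -24, -6, -19], [1, 1, 1, 21], [0, 0, -1, 3, 0, 1, -2, 7, 1, -2, 9, -30, 0, 0, -2, 7], [3, 2, 1, 1, 0, 1, 0, -1, -7, 0, 0, 3, -2, 0, 0, 1]),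
  ([9, 22, 12, 13, 4, 17, 18, 7, 8, 0, 20, 21, 2, 3, 23, 15, 16, 5, 6, 19, 10, 11, 1, 14], [-1, 0, 0, 0, 0, 1, 0, 0, 1, 2, -1, 0, 4, 7, -5, 1], [1, 1, 1, 21], [0, 1, -1, 4, 1, -3, 2, -7, 0, 0, 0, 1, 0, 0, 1, -5], [3, 1, 0, 1, 1, 0, 1, 1, 0, 0, 5, 1, 0, 0, 1, 0]),
  ([11, 21, 8, 16, 3, 13, 19, 6, 14, 1, 18, 23, 0, 5, 22, 9, 17, 4, 10, 20, 7, 15, 2, 12], [0, 1, 0, 0, 0, 0, 0, -1, 0, -1, -1, 2, -1, -9, -6, 9], [1, 1, 1, 21], [1, -1, -2, 7, 0, 0, -1, 4, 0, 1, 2, -6, 0, 0, -1, 3], [1, -1, 1, 1, 0, 0, 1, 2, 0, 3, 0, -4, 0, 1, 0, -1]),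
  ([12, 17, 4, 22, 9, 13, 15, 2, 20, 7, 5, 23, 0, 18, 16, 3, 21, 8, 10, 14, 1, 19, 6, 11], [-1, 0, 0, 0, 0, -1, 0, 0, 1, 2, -1, 0, 2, 4, -2, 1], [1, 1, 1, 9], [1, 0, 0, 0, 0, 1, 0, 1, 0, 0, 0, 1, 0, 0, 1, -5], [1, 0, 0, 0, 0, 1, -1, 0, 0, 0, 5, 1, 0, 0, 1, 0]),
  ([15, 10, 20, 2, 12, 7, 14, 23, 5, 17, 19, 1, 22, 4, 6, 18, 0, 9, 16, 11, 21, 3, 13, 8], [-1, 0, 0, 0, 3, -1, 0, 0, 4, -1, 1, 0, 46, -11, 12, 1], [1, 1, 1, 21], [0, 0, 1, -2, 1, 0, -3, 6, 0, 1, 3, -7, 0, 0, 6, -11], [3, 1, 0, 0, -9, 0, 1, 1, -11, 0, 0, 2, -6, 0, 0, 1]),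
  ([20, 7, 12, 10, 15, 2, 18, 22, 19, 23, 9, 6, 17, 14, 0, 4, 1, 5, 21, 8, 13, 11, 16, 3], [1, 0, 0, 0, -4, -1, 0, 0, -5, -1, 1, 0, -48, -10, 9, -1], [1, 1, 1, 21], [0, 0, 1, -2, 1, 0, 2, -4, 0, 1, -4, 7, 0, 0, -5, 11], [-2, 1, 0, 0, 9, 0, 1, 1, 11, 0, 0, 2, 5, 0, 0, 1])]

/-- Some of the certificates. -/
def certs8 : List Cert := [
  ([17, 4, 12, 13, 22, 9, 5, 15, 16, 23, 2, 3, 20, 21, 0, 7, 8, 18, 14, 1, 10, 11, 19, 6], [-1, 0, 0, 0, 1, -1, 0, 0, -2, 0, -2, -1, -24, 1, -23, -12], [1, 1, 1, 21], [1, 0, 4, -7, 0, 0, 1, -2, 0, 0, 3, -5, 0, 1, -11, 20], [1, -1, -1, 0, 0, 5, 2, 1, 0, -5, 2, 0, 0, -3, 1, 0]),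
  ([21, 8, 11, 13, 16, 3, 18, 19, 22, 23, 6, 9, 14, 17, 0, 1, 4, 5, 20, 7, 10, 12, 15, 2], [1, 0, 0, 0, 1, 0, -1, 0, -1, 0, 2, -1, 2, -1, -9, 3], [1, 1, 1, 21], [0, 0, 1, 5, 1, -1, 0, 2, 0, 0, 0, 1, 0, 1, 2, 7], [-2, 1, 1, 1, -2, 0, 3, 1, 1, 0, -5, 0, 0, 0, 1, 0]),
  ([16, 11, 3, 21, 13, 8, 14, 5, 23, 17, 1, 19, 4, 22, 6, 0, 18, 9, 15, 10, 2, 20, 12, 7], [-1, 0, 0, 0, 0, -1, 0, 0, 0, 0, 0, 1, -1, -3, 1, -7], [1, 1, 1, 9], [1, 1, -2, -2, 0, 0, 1, 1, 0, 1, -3, -4, 0, 0, 0, 1], [1, -1, -1, -1, 0, 3, 1, 1, 0, 1, 0, -1, 0, 0, 0, 1]),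
  ([19, 10, 14, 6, 11, 1, 20, 23, 18, 21, 15, 7, 16, 8, 2, 5, 0, 3, 22, 12, 17, 9, 13, 4], [-1, 0, 0, 0, 3, -1, 0, 0, -2, 1, 0, 1, -4, 3, 1, 4], [1, 1, 1, 9], [0, 0, 0, 1, 1, 0, -1, 2, 0, 1, 3, -7, 0, 0, 1, -4], [2, 1, 0, 1, -5, 0, 1, -3, 4, 0, 0, 1, 1, 0, 0, 0]),
  ([16, 13, 21, 3, 11, 8, 17, 23, 5, 14, 22, 4, 19, 1, 9, 18, 0, 6, 15, 12, 20, 2, 10, 7], [-1, 0, 0, 0, -1, 0, -1, 0, -1, 0, -2, 1, -3, -1, -9, 3], [1, 1, 1, 21], [0, 0, 1, -5, 1, -1, -1, 7, 0, 0, 0, 1, 0, 1, -2, 7], [3, 1, 1, 1, 2, 0, 3, 1, 1, 0, 5, 0, 0, 0, 1, 0]),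
  ([18, 9, 7, 8, 6, 0, 22, 20, 21, 19, 12, 13, 10, 11, 4, 2, 3, 1, 23, 17, 15, 16, 14, 5], [-1, 0, 0, 0, 0, -1, 0, 0, -1, 3, 0, 1, 3, -9, -1, -3], [1, 1, 1, 21], [0, 1, 0, -3, 0, 0, 0, 1, 0, 0, 1, 7, 1, -2, 0, 6], [2, 0, 0, 1, 1, 3, 0, 0, 0, -7, 1, 0, 0, 1, 0, 0]),
  ([19, 11, 6, 14, 10, 1, 21, 18, 23, 20, 8, 16, 7, 15, 3, 0, 5, 2, 22, 13, 9, 17, 12, 4], [1, 0, 0, 0, 1, 0, 1, 0, -1, 0, -2, -1, -2, 1, -8, -3], [1, 1, 1, 21], [0, 0, 1, -5, 1, -1, 0, -3, 0, 0, 0, 1, 0, 1, 2, -7], [-2, 1, 0, 1, -2, 0, -3, 1, 1, 0, 5, 0, 0, 0, 1, 0]),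
  ([15, 12, 2, 20, 10, 7, 17, 5, 23, 14, 4, 22, 1, 19, 9, 0, 18, 6, 16, 13, 3, 21, 11, 8], [-1, 0, 0, 0, 1, 0, -1, 0, -2, -2, 2, -1, 6, 5, -6, 3], [1, 1, 1, 21], [1, 0, 1, 7, 0, 0, 1, 7, 0, 0, 0, 1, 0, 1, -2, -17], [1, -1, 0, 0, 0, 2, 3, 1, 0, 1, -7, 0, 0, 0, 1, 0]),
  ([13, 21, 16, 8, 3, 11, 22, 17, 9, 4, 23, 18, 5, 0, 19, 14, 6, 1, 12, 20, 15, 7, 2, 10], [-1, 0, 0, 0, 0, -1, 0, 0, 0, 0, 0, -1, -2, 4, 1, 2], [1, 1, 1, 9], [0, 0, 0, 1, 0, 1, 0, 1, 1, -2, -1, -5, 0, 0, 1, 0], [3, 2, 1, 1, -1, 1, 0, 0, 0, 0, 0, 1, 1, 0, 0, 0]),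
  ([14, 19, 10, 11, 1, 6, 23, 15, 16, 5, 20, 21, 2, 3, 18, 7, 8, 0, 17, 22, 12, 13, 4, 9], [-1, 0, 0, 0, -1, 0, 1, 0, -1, 0, 2, 1, 3, 1, -8, -3], [1, 1, 1, 21], [0, 0, 1, 5, 1, -1, -1, -8, 0, 0, 0, 1, 0, 1, -2, -7], [3, 1, 0, 1, 2, 0, -3, 1, 1, 0, -5, 0, 0, 0, 1, 0]),
  ([12, 20, 7, 15, 2, 10, 22, 9, 17, 4, 18, 23, 0, 5, 19, 6, 14, 1, 13, 21, 8, 16, 3, 11], [0, 1, 0, 0, 0, -1, -1, 0, -3, -7, 2, -1, -19, -45, 12, -6], [1, 1, 1, 21], [1, 0, -2, 7, 0, 0, -2, 7, 0, 0, -1, 3, 0, 1, 9, -30], [1, -1, 0, 0, 0, 3, 3, 1, 0, 3, -7, 0, 0, 1, -2, 0]),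
  ([15, 14, 23, 5, 17, 16, 10, 20, 2, 12, 19, 1, 22, 4, 11, 21, 3, 13, 7, 6, 18, 0, 9, 8], [-1, 0, 0, 0, 2, -1, 0, 0, 1, -1, -1, 0, -4, 3, 1, -1], [1, 1, 1, 13], [0, 0, 0, 1, 1, 0, 0, -3, 0, 0, 1, 4, 0, 1, 0, 6], [3, 1, 0, 0, -6, 0, 0, 1, -4, 0, 1, 0, 1, 0, 0, 0]),
  ([20, 18, 22, 19, 23, 21, 7, 12, 10, 15, 9, 6, 17, 14, 8, 13, 11, 16, 2, 0, 4, 1, 5, 3], [1, 0, 0, 0, -3, -1, 0, 0, -2, -1, -1, 0, -7, -3, -1, 1], [1, 1, 1, 13], [0, 0, 0, 1, 1, 0, 0, 2, 0, 0, 1, -4, 0, 1, 0, -6], [-2, 1, 0, 0, 6, 0, 0, 1, 4, 0, 1, 0, 1, 0, 0, 0]),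
  ([17, 5, 15, 16, 23, 14, 4, 12, 13, 22, 2, 3, 20, 21, 1, 10, 11, 19, 9, 0, 7, 8, 18, 6], [-1, 0, 0, 0, 1, -1, 0, 0, 0, -1, -1, 0, 2, -5, -3, 1], [1, 1, 1, 13], [1, 0, 0, 1, 0, 0, -1, 3, 0, 0, 1, -2, 0, 1, 2, -8], [1, -1, -1, 0, 0, 4, 2, 1, 0, 2, 3, 0, 0, 1, 1, 0]),
  ([21, 18, 19, 22, 23, 20, 8, 11, 13, 16, 6, 9, 14, 17, 7, 10, 12, 15, 3, 0, 1, 4, 5, 2], [1, 0, 0, 0, 1, 0, -1, 0, 0, -1, -3, 0, -3, -1, -1, -1], [1, 1, 7, 7], [0, 0, 0, 1, 1, -1, 2, 0, 0, 0, 1, 0, 0, 1, -3, 2], [-2, 1, 1, 1, -2, 0, 3, 1, 0, 0, 1, 0, 1, 0, 0, 0]),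
  ([16, 14, 5, 23, 17, 15, 11, 3, 21, 13, 1, 19, 4, 22, 10, 2, 20, 12, 8, 6, 0, 18, 9, 7], [-1, 0, 0, 0, 0, -1, 0, 0, 1, 3, -1, 0, -3, -9, 3, -1], [1, 1, 1, 13], [1, 1, 1, 3, 0, 0, 0, 1, 0, 1, 0, -2, 0, 0, 1, 4], [1, -1, -1, -1, 0, 2, 1, 0, 0, -4, 0, 1, 0, 1, 0, 0])]

/-- Some of the certificates. -/
def certs9 : List Cert := [
  ([19, 20, 23, 18, 21, 22, 10, 14, 6, 11, 15, 7, 16, 8, 12, 17, 9, 13, 1, 2, 5, 0, 3, 4], [-1, 0, 0, 0, -1, 0, -1, 0, 2, 0, 1, -1, -8, 1, -3, 3], [1, 1, 1, 13], [0, 0, 0, 1, 1, 0, -1, -5, 0, 1, -1, -5, 0, 0, 1, 3], [2, 1, 0, 1, 2, 0, 1, 1, -3, 0, 0, 1, 1, 0, 0, 0]),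
  ([16, 17, 23, 5, 14, 15, 13, 21, 3, 11, 22, 4, 19, 1, 12, 20, 2, 10, 8, 9, 18, 0, 6, 7], [-1, 0, 0, 0, -1, 0, -1, 0, -1, -1, -3, 0, -2, 1, 1, 1], [1, 1, 7, 7], [0, 0, 0, 1, 1, -1, 2, -1, 0, 0, 1, 0, 0, 1, -3, -2], [3, 1, 1, 1, 2, 0, 3, 1, 0, 0, 1, 0, 1, 0, 0, 0]),
  ([18, 22, 20, 21, 19, 23, 9, 7, 8, 6, 12, 13, 10, 11, 17, 15, 16, 14, 0, 4, 2, 3, 1, 5], [-1, 0, 0, 0, -1, -1, 0, 0, 0, 0, -1, 0, -5, -2, -1, 1], [1, 1, 3, 9], [0, 0, 0, 1, 0, 1, 1, -2, 0, 0, 1, 0, 1, 0, 0, -2], [2, 0, 0, 1, 2, 1, -1, 0, 0, 0, 1, 0, 1, 0, 0, 0]),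
  ([19, 21, 18, 23, 20, 22, 11, 6, 14, 10, 8, 16, 7, 15, 13, 9, 17, 12, 1, 3, 0, 5, 2, 4], [1, 0, 0, 0, 2, 1, 0, 0, 7, 3, 1, 0, -3, -1, 0, -1], [1, 1, 7, 7], [0, 0, 0, 1, 1, 0, -1, 0, 0, 1, -2, 0, 0, 0, 1, 2], [-2, 1, 0, 1, -4, 0, 1, 2, -2, 0, 0, 1, 1, 0, 0, 0]),
  ([15, 17, 5, 23, 14, 16, 12, 2, 20, 10, 4, 22, 1, 19, 13, 3, 21, 11, 7, 9, 0, 18, 6, 8], [-1, 0, 0, 0, 0, 1, 0, 0, 1, -3, -1, 0, 2, -5, -2, 1], [1, 1, 1, 13], [1, 0, 0, 1, 0, 0, 0, 1, 0, 1, 0, 2, 0, 0, 1, -8], [1, -1, 0, 0, 0, -2, 1, 0, 0, 8, 0, 1, 0, 1, 0, 0]),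
  ([13, 22, 17, 9, 4, 12, 21, 16, 8, 3, 23, 18, 5, 0, 20, 15, 7, 2, 11, 19, 14, 6, 1, 10], [-1, 0, 0, 0, 0, -1, 0, 0, 0, 0, 0, -1, -2, 4, 1, 2], [1, 1, 3, 9], [0, 0, 0, 1, 0, 1, 1, 1, 1, -2, -3, -5, 0, 0, 1, 0], [3, 2, 1, 1, -1, 1, 0, -1, 0, 0, 0, 1, 1, 0, 0, 0]),
  ([14, 23, 15, 16, 5, 17, 19, 10, 11, 1, 20, 21, 2, 3, 22, 12, 13, 4, 6, 18, 7, 8, 0, 9], [-1, 0, 0, 0, -1, 1, 0, 0, -4, 3, 1, 0, -2, 1, 0, 1], [1, 1, 7, 7], [0, 0, 0, 1, 1, 0, -1, -1, 0, 1, -2, 0, 0, 0, 1, -2], [3, 1, 0, 1, 4, 0, 1, 2, 2, 0, 0, 1, 1, 0, 0, 0]),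
  ([12, 22, 9, 17, 4, 13, 20, 7, 15, 2, 18, 23, 0, 5, 21, 8, 16, 3, 10, 19, 6, 14, 1, 11], [0, 1, 0, 0, 0, -1, -1, 0, 1, 3, 0, 0, -1, -5, -2, 1], [1, 1, 3, 9], [1, 0, -1, 0, 0, 0, 0, 1, 0, 0, 1, 1, 0, 1, -2, -5], [1, -1, 1, 0, 0, 3, 2, 1, 0, -1, 1, 0, 0, 1, 0, 0]),
  ([20, 10, 15, 7, 12, 2, 19, 23, 18, 22, 14, 6, 17, 9, 1, 5, 0, 4, 21, 11, 16, 8, 13, 3], [-1, 0, 0, 0, 3, -1, 0, 0, 4, -1, 1, 0, 30, -7, 8, 1], [1, 1, 1, 13], [0, 0, 1, -2, 1, 0, -2, 4, 0, 1, 1, -3, 0, 0, 4, -7], [2, 1, 0, 0, -5, 0, 1, 1, -7, 0, 0, 2, -4, 0, 0, 1]),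
  ([17, 13, 22, 4, 12, 9, 16, 23, 5, 15, 21, 3, 20, 2, 8, 18, 0, 7, 14, 11, 19, 1, 10, 6], [-1, 0, 0, 0, 3, -1, 0, 0, -2, 1, 1, 0, -1, -1, -3, -1], [1, 1, 7, 7], [0, 0, 1, 0, 1, 0, -3, -1, 0, 0, 0, 1, 0, 1, 9, 3], [3, 1, 1, 0, -9, 0, -3, 1, 1, 0, 0, 0, 0, 0, 1, 0]),
  ([22, 9, 12, 13, 17, 4, 18, 20, 21, 23, 7, 8, 15, 16, 0, 2, 3, 5, 19, 6, 10, 11, 14, 1], [1, 0, 0, 0, -4, -1, 0, 0, -3, -1, -1, 0, 0, -1, -3, -1], [1, 1, 7, 7], [0, 0, 1, 0, 1, 0, 2, -1, 0, 0, 0, 1, 0, 1, -9, 3], [-2, 1, 1, 0, 9, 0, -3, 1, 1, 0, 0, 0, 0, 0, 1, 0]),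
  ([21, 11, 8, 16, 13, 3, 19, 18, 23, 22, 6, 14, 9, 17, 1, 0, 5, 4, 20, 10, 7, 15, 12, 2], [1, 0, 0, 0, -1, 0, -1, 0, 2, 0, 1, -1, 11, 1, 5, -3], [1, 1, 1, 13], [0, 0, 1, -3, 1, -1, 0, -2, 0, 1, 0, 1, 0, 0, 2, -5], [-2, 1, 1, 1, 2, 0, 1, -1, -5, 0, 0, 3, -2, 0, 0, 1]),
  ([17, 12, 4, 22, 13, 9, 15, 5, 23, 16, 2, 20, 3, 21, 7, 0, 18, 8, 14, 10, 1, 19, 11, 6], [-1, 0, 0, 0, 0, -1, 0, 0, 1, 3, -1, 0, -2, -6, 2, -1], [1, 1, 1, 13], [1, 1, 0, -2, 0, 0, 0, 1, 0, 1, 0, -3, 0, 0, 1, 7], [1, -1, -1, 0, 0, 3, 1, 0, 0, -7, 0, 1, 0, 1, 0, 0]),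
  ([21, 13, 16, 8, 11, 3, 22, 23, 18, 19, 17, 9, 14, 6, 4, 5, 0, 1, 20, 12, 15, 7, 10, 2], [-1, 0, 0, 0, -1, 0, -1, 0, 0, -1, -3, 0, 1, -3, -7, -1], [1, 1, 1, 13], [0, 0, 1, -6, 1, -1, 0, 2, 0, 0, 0, 1, 0, 1, -2, 9], [2, 1, 1, 1, 2, 0, 3, 1, 1, 0, 6, 0, 0, 0, 1, 0]),
  ([19, 14, 10, 11, 6, 1, 23, 20, 21, 18, 15, 16, 7, 8, 5, 2, 3, 0, 22, 17, 12, 13, 9, 4], [-1, 0, 0, 0, -1, 0, 1, 0, 0, -1, 2, 0, -1, 3, -4, 1], [1, 1, 1, 13], [0, 0, 1, 6, 1, -1, 0, -3, 0, 0, 0, 1, 0, 1, -2, -9], [2, 1, 0, 1, 2, 0, -3, 1, 1, 0, -6, 0, 0, 0, 1, 0]),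
  ([20, 12, 7, 15, 10, 2, 22, 18, 23, 19, 9, 17, 6, 14, 4, 0, 5, 1, 21, 13, 8, 16, 11, 3], [1, 0, 0, 0, -1, 0, -1, 0, -3, -1, 0, 0, 0, 1, -2, 1], [1, 1, 7, 7], [0, 0, 1, 0, 1, 0, 2, 0, 0, 0, 0, 1, 0, 1, -2, -3], [-2, 1, 0, 0, 2, 0, 3, 1, 1, 0, 0, 0, 0, 0, 1, 0])]

/-- Some of the certificates. -/
def certs10 : List Cert := [
  ([16, 21, 13, 11, 3, 8, 23, 17, 14, 5, 22, 19, 4, 1, 18, 9, 6, 0, 15, 20, 12, 10, 2, 7], [-1, 0, 0, 0, 1, 0, -1, 0, -2, 0, 1, -1, -10, 1, 5, -3], [1, 1, 1, 13], [0, 0, -1, 3, 1, -1, 1, -5, 0, 1, 0, 1, 0, 0, 2, -5], [3, 1, 1, 1, -2, 0, 1, -1, 5, 0, 0, 3, 2, 0, 0, 1]),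
  ([15, 20, 10, 12, 2, 7, 23, 14, 17, 5, 19, 22, 1, 4, 18, 6, 9, 0, 16, 21, 11, 13, 3, 8], [-1, 0, 0, 0, 1, 0, -1, 0, -2, 1, 0, 0, 1, 1, -2, 1], [1, 1, 7, 7], [0, 0, 1, 0, 1, 0, -3, 0, 0, 0, 0, 1, 0, 1, 2, -3], [3, 1, 0, 0, -2, 0, 3, 1, 1, 0, 0, 0, 0, 0, 1, 0]),
  ([20, 19, 23, 18, 22, 21, 10, 15, 7, 12, 14, 6, 17, 9, 11, 16, 8, 13, 2, 1, 5, 0, 4, 3], [-1, 0, 0, 0, 2, -1, 0, 0, 1, -1, -1, 0, -4, 3, 1, -1], [1, 1, 1, 9], [0, 0, 0, 1, 1, 0, 0, -2, 0, 0, 1, 2, 0, 1, 0, 4], [2, 1, 0, 0, -4, 0, 0, 1, -2, 0, 1, 0, 1, 0, 0, 0]),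
  ([17, 16, 23, 5, 15, 14, 13, 22, 4, 12, 21, 3, 20, 2, 11, 19, 1, 10, 9, 8, 18, 0, 7, 6], [-1, 0, 0, 0, 2, -1, 0, 0, 1, -1, -1, 0, -6, 5, 3, -1], [1, 1, 1, 21], [0, 0, 0, 1, 1, 0, -1, -7, 0, 0, 1, 4, 0, 1, 2, 14], [3, 1, 1, 0, -6, 0, -2, 1, -4, 0, 1, 0, 1, 0, 0, 0]),
  ([22, 18, 20, 21, 23, 19, 9, 12, 13, 17, 7, 8, 15, 16, 6, 10, 11, 14, 4, 0, 2, 3, 5, 1], [1, 0, 0, 0, -3, -1, 0, 0, -2, -1, -1, 0, -11, -5, -3, 1], [1, 1, 1, 21], [0, 0, 0, 1, 1, 0, -1, 6, 0, 0, 1, -4, 0, 1, 2, -14], [-2, 1, 1, 0, 6, 0, -2, 1, 4, 0, 1, 0, 1, 0, 0, 0]),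
  ([21, 19, 18, 23, 22, 20, 11, 8, 16, 13, 6, 14, 9, 17, 10, 7, 15, 12, 3, 1, 0, 5, 4, 2], [1, 0, 0, 0, 2, 1, 0, 0, -1, -1, 0, 1, 3, 5, -1, -6], [1, 1, 1, 21], [0, 0, 1, 4, 1, -1, -2, -7, 0, 1, 4, 14, 0, 0, 0, 1], [-2, 1, 1, 1, -4, 0, 1, 2, 1, 0, 0, -4, 0, 0, 0, 1]),
  ([17, 15, 5, 23, 16, 14, 12, 4, 22, 13, 2, 20, 3, 21, 10, 1, 19, 11, 9, 7, 0, 18, 8, 6], [-1, 0, 0, 0, 0, -1, 0, 0, 1, 3, -1, 0, -2, -6, 2, -1], [1, 1, 1, 9], [1, 1, 0, -1, 0, 0, 0, 1, 0, 1, 0, -2, 0, 0, 1, 4], [1, -1, -1, 0, 0, 2, 1, 0, 0, -4, 0, 1, 0, 1, 0, 0]),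
  ([21, 22, 23, 18, 19, 20, 13, 16, 8, 11, 17, 9, 14, 6, 12, 15, 7, 10, 3, 4, 5, 0, 1, 2], [-1, 0, 0, 0, -1, 0, -1, 0, -1, -1, -3, 0, -11, -8, -26, 1], [1, 1, 1, 21], [0, 0, -3, 7, 1, -1, 2, -4, 0, 0, 1, -2, 0, 1, 3, -8], [2, 1, 1, 1, 2, 0, 3, 1, 2, 0, 7, 0, 1, 0, 3, 0]),
  ([19, 23, 20, 21, 18, 22, 14, 10, 11, 6, 15, 16, 7, 8, 17, 12, 13, 9, 1, 5, 2, 3, 0, 4], [-1, 0, 0, 0, -1, 1, 0, 0, 0, 1, 1, -2, -2, 10, 9, -17], [1, 1, 1, 21], [0, 0, -3, 7, 1, 0, 5, -12, 0, 1, 4, -10, 0, 0, 1, -2], [2, 1, 0, 1, 2, 0, 1, 2, 2, 0, 0, 7, 1, 0, 0, 3]),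
  ([20, 22, 18, 23, 19, 21, 12, 7, 15, 10, 9, 17, 6, 14, 13, 8, 16, 11, 2, 4, 0, 5, 1, 3], [1, 0, 0, 0, 2, 1, 0, 0, -7, -3, -1, 0, -11, -5, -2, 1], [1, 1, 1, 21], [0, 0, 0, 1, 1, 0, 0, 2, 0, 1, 0, 4, 0, 0, 1, -14], [-2, 1, 0, 0, -4, 0, 1, 0, 14, 0, 0, 1, 1, 0, 0, 0]),
  ([16, 23, 17, 14, 5, 15, 21, 13, 11, 3, 22, 19, 4, 1, 20, 12, 10, 2, 8, 18, 9, 6, 0, 7], [-1, 0, 0, 0, -1, 1, 0, 0, 0, 1, 0, -1, 2, 5, -1, -6], [1, 1, 1, 21], [0, 0, 1, -4, 1, -1, 1, -3, 0, 1, -4, 14, 0, 0, 0, 1], [3, 1, 1, 1, 4, 0, 1, 2, 1, 0, 0, 4, 0, 0, 0, 1]),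
  ([15, 23, 14, 17, 5, 16, 20, 10, 12, 2, 19, 22, 1, 4, 21, 11, 13, 3, 7, 18, 6, 9, 0, 8], [-1, 0, 0, 0, -1, 1, 0, 0, 4, -3, -1, 0, -6, 5, 2, -1], [1, 1, 1, 21], [0, 0, 0, 1, 1, 0, 0, -3, 0, 1, 0, -4, 0, 0, 1, 14], [3, 1, 0, 0, 4, 0, 1, 0, -14, 0, 0, 1, 1, 0, 0, 0]),
  ([22, 13, 17, 9, 12, 4, 21, 23, 18, 20, 16, 8, 15, 7, 3, 5, 0, 2, 19, 11, 14, 6, 10, 1], [-1, 0, 0, 0, 3, -1, 0, 0, -1, 2, 4, 1, 1, -5, -11, -3], [1, 1, 1, 21], [0, 0, 1, 7, 1, 0, -2, -15, 0, 0, 0, 1, 0, 1, 5, 38], [2, 1, 1, 0, -5, 0, -3, 1, 1, 0, -7, 0, 0, 0, 1, 0]),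
  ([23, 14, 15, 16, 17, 5, 19, 20, 21, 22, 10, 11, 12, 13, 1, 2, 3, 4, 18, 6, 7, 8, 9, 0], [1, 0, 0, 0, -1, -1, 0, 0, -3, -1, -1, 0, -17, -7, -5, 1], [1, 1, 1, 21], [0, 0, 1, -3, 0, 0, -2, 7, 1, 0, 2, -6, 0, 1, 3, -12], [-2, 0, 1, 0, 3, 3, 0, 1, 7, 3, 0, 0, 2, 1, 0, 0]),
  ([22, 12, 9, 17, 13, 4, 20, 18, 23, 21, 7, 15, 8, 16, 2, 0, 5, 3, 19, 10, 6, 14, 11, 1], [1, 0, 0, 0, -1, 0, -1, 0, 2, 0, 1, -1, -9, -1, -4, 2], [1, 1, 1, 21], [0, 0, 0, 1, 1, -1, 1, 9, 0, 1, -1, -7, 0, 0, 1, 5], [-2, 1, 1, 0, 2, 0, 1, 1, -5, 0, 0, 1, 1, 0, 0, 0]),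
  ([21, 16, 13, 11, 8, 3, 23, 22, 19, 18, 17, 14, 9, 6, 5, 4, 1, 0, 20, 15, 12, 10, 7, 2], [-1, 0, 0, 0, 1, 0, -1, 0, -2, -1, 1, -3, -8, -3, 4, -10], [1, 1, 1, 9], [0, 0, -2, 5, 1, -1, 6, -16, 0, 1, -3, 8, 0, 0, 1, -2], [2, 1, 1, 1, -2, 0, 1, -1, 2, 0, 0, 5, 1, 0, 0, 2])]

/-- Some of the certificates. -/
def certs11 : List Cert := [
  ([20, 15, 10, 12, 7, 2, 23, 19, 22, 18, 14, 17, 6, 9, 5, 1, 4, 0, 21, 16, 11, 13, 8, 3], [-1, 0, 0, 0, 1, 0, -1, 0, -1, 2, -2, 1, -1, 5, -6, 3], [1, 1, 1, 21], [0, 0, 1, -7, 1, 0, -2, 14, 0, 0, 0, 1, 0, 1, 2, -17], [2, 1, 0, 0, -2, 0, 3, 1, 1, 0, 7, 0, 0, 0, 1, 0]),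
  ([17, 22, 13, 12, 4, 9, 23, 16, 15, 5, 21, 20, 3, 2, 18, 8, 7, 0, 14, 19, 11, 10, 1, 6], [-1, 0, 0, 0, 1, 0, -1, 0, -2, 0, 1, -1, -8, 1, 4, -2], [1, 1, 1, 21], [0, 0, 0, 1, 1, -1, 1, -10, 0, 1, -1, 7, 0, 0, 1, -5], [3, 1, 1, 0, -2, 0, 1, 1, 5, 0, 0, 1, 1, 0, 0, 0]),
  ([22, 21, 23, 18, 20, 19, 13, 17, 9, 12, 16, 8, 15, 7, 11, 14, 6, 10, 4, 3, 5, 0, 2, 1], [-1, 0, 0, 0, 2, -1, 0, 0, 1, -1, -1, 0, -6, 5, 3, -1], [1, 1, 1, 13], [0, 0, 0, 1, 1, 0, -1, -4, 0, 0, 1, 2, 0, 1, 2, 8], [2, 1, 1, 0, -4, 0, -2, 1, -2, 0, 1, 0, 1, 0, 0, 0]),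
  ([23, 19, 20, 21, 22, 18, 14, 15, 16, 17, 10, 11, 12, 13, 6, 7, 8, 9, 5, 1, 2, 3, 4, 0], [1, 0, 0, 0, -1, -1, 0, 0, -3, -1, -1, 0, -4, 0, -2, -1], [1, 1, 3, 9], [0, 0, 0, 1, 0, 0, 1, -2, 1, 0, 0, 2, 0, 1, -3, 4], [-2, 0, 1, 0, 2, 3, 0, 1, 2, 1, 0, 0, 1, 0, 0, 0]),
  ([22, 20, 18, 23, 21, 19, 12, 9, 17, 13, 7, 15, 8, 16, 10, 6, 14, 11, 4, 2, 0, 5, 3, 1], [1, 0, 0, 0, 2, 1, 0, 0, -3, -1, -1, 0, -7, -3, -2, 1], [1, 1, 1, 13], [0, 0, 0, 1, 1, -1, 0, -2, 0, 1, 0, 4, 0, 0, 1, -6], [-2, 1, 1, 0, -4, 0, 1, 0, 6, 0, 0, 1, 1, 0, 0, 0]),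
  ([21, 23, 22, 19, 18, 20, 16, 13, 11, 8, 17, 14, 9, 6, 15, 12, 10, 7, 3, 5, 4, 1, 0, 2], [-1, 0, 0, 0, -1, 1, 0, 0, 0, 1, 0, -1, 2, 3, -1, -4], [1, 1, 1, 13], [0, 0, 1, -4, 1, -1, 0, 1, 0, 1, -2, 6, 0, 0, 0, 1], [2, 1, 1, 1, 2, 0, 1, 2, 1, 0, 0, 4, 0, 0, 0, 1]),
  ([20, 23, 19, 22, 18, 21, 15, 10, 12, 7, 14, 17, 6, 9, 16, 11, 13, 8, 2, 5, 1, 4, 0, 3], [-1, 0, 0, 0, -1, 1, 0, 0, 4, -3, -1, 0, -6, 5, 2, -1], [1, 1, 1, 13], [0, 0, 0, 1, 1, 0, 0, -2, 0, 1, 0, -2, 0, 0, 1, 8], [2, 1, 0, 0, 2, 0, 1, 0, -8, 0, 0, 1, 1, 0, 0, 0]),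
  ([17, 23, 16, 15, 5, 14, 22, 13, 12, 4, 21, 20, 3, 2, 19, 11, 10, 1, 9, 18, 8, 7, 0, 6], [-1, 0, 0, 0, -1, 1, 0, 0, 2, -1, -1, 0, -4, 3, 2, -1], [1, 1, 1, 13], [0, 0, 0, 1, 1, -1, 0, 1, 0, 1, 0, -4, 0, 0, 1, 6], [3, 1, 1, 0, 4, 0, 1, 0, -6, 0, 0, 1, 1, 0, 0, 0]),
  ([23, 16, 17, 14, 15, 5, 21, 22, 19, 20, 13, 11, 12, 10, 3, 4, 1, 2, 18, 8, 9, 6, 7, 0], [-1, 0, 0, 0, 0, -1, 0, 0, 2, -4, -1, 0, 2, -3, -1, 1], [1, 1, 3, 9], [0, 1, -1, 1, 0, 0, 0, 1, 1, -2, 2, -2, 0, 0, 1, -4], [2, 0, 1, 0, 1, 3, 0, 1, 0, 4, 0, 1, 0, 1, 0, 0]),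
  ([23, 15, 14, 17, 16, 5, 20, 19, 22, 21, 10, 12, 11, 13, 2, 1, 4, 3, 18, 7, 6, 9, 8, 0], [1, 0, 0, 0, -2, 0, -1, 0, -1, -1, 0, 0, 1, -3, 2, -1], [1, 1, 3, 9], [0, 0, 1, -1, 0, 0, 0, 1, 1, 0, 2, -2, 0, 1, -4, 4], [-2, 0, 1, 0, 4, 0, 0, 1, 1, 1, 0, 0, 0, 1, 0, 0]),
  ([22, 17, 13, 12, 9, 4, 23, 21, 20, 18, 16, 15, 8, 7, 5, 3, 2, 0, 19, 14, 11, 10, 6, 1], [-1, 0, 0, 0, 1, 0, -1, 0, -2, 0, 1, -1, -8, 1, 4, -2], [1, 1, 1, 13], [0, 0, 0, 1, 1, -1, 1, -7, 0, 1, -1, 5, 0, 0, 1, -3], [2, 1, 1, 0, -2, 0, 1, 1, 3, 0, 0, 1, 1, 0, 0, 0]),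
  ([23, 21, 22, 19, 20, 18, 16, 17, 14, 15, 13, 11, 12, 10, 8, 9, 6, 7, 5, 3, 4, 1, 2, 0], [-1, 0, 0, 0, 0, -1, 0, 0, 0, 2, 0, -1, -2, -7, 1, 4], [1, 1, 1, 21], [0, 0, 1, 6, 0, 0, 0, 1, 1, 0, -2, -12, 0, 1, 0, -3], [2, 0, 1, 0, 0, 3, 0, 1, 1, -6, 0, 0, 0, 1, 0, 0]),
  ([23, 20, 19, 22, 21, 18, 15, 14, 17, 16, 10, 12, 11, 13, 7, 6, 9, 8, 5, 2, 1, 4, 3, 0], [1, 0, 0, 0, -2, 0, -1, 0, -1, -1, 0, 0, -11, -7, -2, 1], [1, 1, 1, 21], [0, 0, -1, 3, 0, 0, 1, -2, 1, 0, -2, 6, 0, 1, 4, -12], [-2, 0, 1, 0, 4, 0, 0, 1, 2, 3, 0, 0, 1, 1, 0, 0]),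
  ([22, 23, 21, 20, 18, 19, 17, 13, 12, 9, 16, 15, 8, 7, 14, 11, 10, 6, 4, 5, 3, 2, 0, 1], [-1, 0, 0, 0, -1, 1, 0, 0, 2, -1, -1, 0, -4, 3, 2, -1], [1, 1, 1, 9], [0, 0, 0, 1, 1, -1, 0, 0, 0, 1, 0, -2, 0, 0, 1, 4], [2, 1, 1, 0, 2, 0, 1, 0, -4, 0, 0, 1, 1, 0, 0, 0]),
  ([23, 17, 16, 15, 14, 5, 22, 21, 20, 19, 13, 12, 11, 10, 4, 3, 2, 1, 18, 9, 8, 7, 6, 0], [-1, 0, 0, 0, 0, -1, 0, 0, 2, -4, -1, 0, 4, -7, -2, 1], [1, 1, 1, 21], [0, 1, 0, -3, 0, 0, 0, 1, 1, -2, 0, 6, 0, 0, 1, -12], [2, 0, 1, 0, 1, 3, 0, 0, 0, 12, 0, 1, 0, 1, 0, 0]),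
  ([23, 22, 21, 20, 19, 18, 17, 16, 15, 14, 13, 12, 11, 10, 9, 8, 7, 6, 5, 4, 3, 2, 1, 0], [-1, 0, 0, 0, 2, 0, -1, 0, 0, -1, 0, 0, -4, 0, 2, -1], [1, 1, 3, 9], [0, 0, 0, 1, 0, 0, 1, 0, 1, 0, 0, -2, 0, 1, 0, 4], [2, 0, 1, 0, -4, 0, 0, 1, 0, 1, 0, 0, 1, 0, 0, 0])]

/-- The certificates. -/
def certs : List Cert :=
  certs0 ++ certs1 ++ certs2 ++ certs3 ++ certs4 ++ certs5 ++ certs6 ++ certs7 ++ certs8 ++ certs9 ++ certs10 ++ certs11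

/-- An entry of a flattened matrix. -/
def ent (M : List ℤ) (i j : Fin 4) : ℤ := M.getD (4 * (i : ℕ) + (j : ℕ)) 0

/-- The image of a simple root under the twisted permutation. -/
def img (p : List ℕ) (i : Fin 4) : Fin 24 :=
  Fin.ofNat 24 (p.getD (d4_031_P.getD (chevD4.simple (i : ℕ)) 0) 0)

/-- The matrix of the congruences. -/
def tmat (p : List ℕ) (i l : Fin 4) : ℤ :=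
  D4Twist.coord (img p i) l - if i = l then 2 else 0

/-- The identities of a certificate. -/
def certOk : Cert → Bool
  | (p, U, d, V, Vi) =>
    (List.finRange 4).all (fun i =>
      decide (0 < d.getD (i : ℕ) 0 ∧ 819 % d.getD (i : ℕ) 0 = 0) &&
      (List.finRange 4).all fun l =>
        decide (ent U i 0 * tmat p 0 l + ent U i 1 * tmat p 1 l + ent U i 2 * tmat p 2 l +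
          ent U i 3 * tmat p 3 l = (d.getD (i : ℕ) 0 : ℤ) * ent Vi i l) &&
        decide (ent V i 0 * ent Vi 0 l + ent V i 1 * ent Vi 1 l + ent V i 2 * ent Vi 2 l +
          ent V i 3 * ent Vi 3 l = if i = l then 1 else 0))

/-- The point of a torus with given parameters. -/
def point (d : List ℕ) (V : List ℤ) (k0 k1 k2 k3 : ℕ) (i : Fin 4) : ℕ :=
  ((ent V i 0 * ((819 / d.getD 0 0) * k0 : ℕ) + ent V i 1 * ((819 / d.getD 1 0) * k1 : ℕ) +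
    ent V i 2 * ((819 / d.getD 2 0) * k2 : ℕ) + ent V i 3 * ((819 / d.getD 3 0) * k3 : ℕ)) %
      819).toNat

/-- For each coordinate, two roots whose sum is twice its weight. -/
def coordRoots : List (Fin 24 × Fin 24) := [(18, 23), (5, 23), (4, 22), (2, 20), (0, 5), (0, 18), (1, 19), (3, 21)]

/-- The number of fixed coordinates of a point. -/
def fixCount (a : Fin 4 → ℕ) : ℕ :=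
  coordRoots.countP fun x => (D4Twist.rval 819 a x.1 + D4Twist.rval 819 a x.2) % 819 == 0

/-- All root values are killed by a number. -/
def killed (n : ℕ) (a : Fin 4 → ℕ) : Bool :=
  (List.finRange 24).all fun r => n * D4Twist.rval 819 a r % 819 == 0

/-- The condition on a point. -/
def pointOk (a : Fin 4 → ℕ) : Bool :=
  killed 1 a || (killed 3 a && Nat.ble (fixCount a) 4) ||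
    (killed 7 a && Nat.ble (fixCount a) 2) || fixCount a == 0

/-- All points of a torus satisfy the condition. -/
def torusOk : Cert → Bool
  | (_, _, d, V, _) =>
    (List.range (d.getD 0 0)).all fun k0 => (List.range (d.getD 1 0)).all fun k1 =>
      (List.range (d.getD 2 0)).all fun k2 => (List.range (d.getD 3 0)).all fun k3 =>
        pointOk (point d V k0 k1 k2 k3)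

/-- The permutations are closed under the simple reflections. -/
def closed : Bool :=
  (List.finRange 4).all fun i => certs.all fun c =>
    (certs.map fun e => e.1).contains (c.1.map fun s => chevD4.reflectRoot (i : ℕ) s)

theorem certs_closed : closed = true := by decide +kernel

theorem certs_one : (certs.map fun e => e.1).contains (List.range 24) = true := by decide +kernel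

theorem certs_ok : certs.all certOk = true := by decide +kernel

theorem certs_torus : certs.all torusOk = true := by decide +kernel

end Cfsg.Agent.D4Nat
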