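import Cfsg.Agent.D4Nat.Rep
import Cfsg.Agent.D4Nat.Table

/-!
Semisimple elements fixed by the twisted Frobenius over `GF(2)` in the eight dimensional module.
-/

set_option autoImplicit false
set_option maxRecDepth 100000
set_option maxHeartbeats 1000000

namespace Cfsg.Agent.D4Nat

open Cfsg.Lie Matrix Cfsg.Agent.Chev Cfsg.Agent.Chev.SS Cfsg.Agent.Chev.Ortho Cfsg.Agent.AltSec
open scoped MatrixGroups

universe u

variable {F : Type u} [Field F] [CharP F 2]

/-- The weights of the coordinates. -/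
def wt (i : Fin chevD4.rank) (a : I8) : ℤ :=
  (([[1, -1, 0, 0, -1, 1, 0, 0], [0, 1, -1, 0, 0, -1, 1, 0], [0, 0, 1, -1, 0, 0, -1, 1],
    [0, 0, 1, 1, 0, 0, -1, -1]] : List (List ℤ)).getD (i : ℕ) []).getD
      (Sum.elim (fun j : Fin 4 => (j : ℕ)) (fun j : Fin 4 => 4 + (j : ℕ)) a) 0

/-- The diagonal of a torus element. -/
noncomputable def lam (c : Fin chevD4.rank → Fˣ) (a : I8) : Fˣ := ∏ i, c i ^ wt i a

/-- The coordinates in the order of `coordRoots`. -/
def coordIx : List I8 := [.inl 0, .inl 1, .inl 2, .inl 3, .inr 0, .inr 1, .inr 2, .inr 3]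

theorem wt_roots : ∀ (i : Fin chevD4.rank) (j : Fin 8),
    2 * wt i (coordIx.getD (j : ℕ) (.inl 0)) =
      chevD4.cartan (i : ℕ) ((coordRoots.getD (j : ℕ) (0, 0)).1 : ℕ) +
        chevD4.cartan (i : ℕ) ((coordRoots.getD (j : ℕ) (0, 0)).2 : ℕ) := by
  decide +kernel

theorem lam_sq (c : Fin chevD4.rank → Fˣ) (j : Fin 8) :
    lam c (coordIx.getD (j : ℕ) (.inl 0)) ^ 2 =
      chiU c ((coordRoots.getD (j : ℕ) (0, 0)).1 : ℕ) *
        chiU c ((coordRoots.getD (j : ℕ) (0, 0)).2 : ℕ) := by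
  rw [lam, chiU, chiU, ← Finset.prod_pow, ← Finset.prod_mul_distrib]
  refine Finset.prod_congr rfl fun i _ => ?_
  rw [← _root_.zpow_add, ← wt_roots, ← _root_.zpow_natCast, ← _root_.zpow_mul, mul_comm]
  rfl

theorem torusHom_mem_group (c : Fin chevD4.rank → Fˣ) :
    (torusHom c : GL chevD4.Idx F) ∈ chevD4.group F :=
  borel_le_group facts_chevD4 (Subgroup.mem_sup_right (torusHom_mem facts_chevD4 c))

theorem el_swap {a b : I8} (h : Ok a b) (h' : Ok b a) (t : F) : el h t = el h' t := by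
  refine ext_act fun x => funext fun i => ?_
  simp only [el_apply, CharTwo.sub_eq_add]
  abel

theorem nEl_apply {a b : I8} (h : Ok a b) (h' : Ok (bar a) (bar b)) {t : F} (ht : t ≠ 0) (x : I8 → F)
    (i : I8) : act (el h t * el h' t⁻¹ * el h t) x i =
      if i = a then t * x (bar b) else if i = b then t * x (bar a) else
        if i = bar a then t⁻¹ * x b else if i = bar b then t⁻¹ * x a else x i := by
  have h1 := h.1
  have h2 : b ≠ bar a := h.2
  have h3 : a ≠ bar b := fun e => h.2 (by rw [e, bar_bar])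
  have h4 : bar a ≠ a := bar_ne a
  have h5 : bar b ≠ b := bar_ne b
  have h6 : bar a ≠ bar b := h'.1
  have g1 : bar a ≠ b := h2.symm
  have g2 : bar b ≠ a := h3.symm
  rw [act_mul, act_mul]
  simp only [el_apply, bar_bar, CharTwo.sub_eq_add, if_true, if_false, h1, h1.symm, g1, g2, h4, h4.symm,
    h5, h5.symm, h6, h6.symm, h2, h3, add_zero, zero_add]
  have hc : ∀ y : F, y + y = 0 := CharTwo.add_self_eq_zero
  by_cases e1 : i = a
  · subst e1
    simp only [h1, h4.symm, h3, if_true, if_false, add_zero]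
    field_simp
    grind
  by_cases e2 : i = b
  · subst e2
    simp only [h1.symm, h2, h5.symm, if_true, if_false, add_zero]
    field_simp
    grind
  by_cases e3 : i = bar a
  · subst e3
    simp only [h4, g1, h6, if_true, if_false, add_zero]
    field_simp
    grind
  by_cases e4 : i = bar b
  · subst e4
    simp only [g2, h5, h6.symm, if_true, if_false, add_zero]
    field_simp
    grind
  simp only [e1, e2, e3, e4, if_false, add_zero]

theorem hEl_apply {a b : I8} (h : Ok a b) (h' : Ok (bar a) (bar b)) {t : F} (ht : t ≠ 0) (x : I8 → F)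
    (i : I8) : act (el h t * el h' t⁻¹ * el h t * (el h 1 * el h' 1 * el h 1)) x i =
      (if i = a ∨ i = b then t else if i = bar a ∨ i = bar b then t⁻¹ else 1) * x i := by
  have h1 := h.1
  have h2 : b ≠ bar a := h.2
  have h3 : a ≠ bar b := fun e => h.2 (by rw [e, bar_bar])
  have h4 : bar a ≠ a := bar_ne a
  have h5 : bar b ≠ b := bar_ne b
  have h6 : bar a ≠ bar b := h'.1
  have e := nEl_apply h h' (one_ne_zero (α := F))
  rw [inv_one] at e
  rw [act_mul, nEl_apply h h' ht]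
  have g1 : bar a ≠ b := h2.symm
  have g2 : bar b ≠ a := h3.symm
  simp only [e, one_mul]
  by_cases e1 : i = a
  · subst e1
    simp [h1, h4.symm, h3, g2, h5, h6.symm, bar_bar]
  by_cases e2 : i = b
  · subst e2
    simp [h1.symm, h2, h5.symm, h4, g1, h6, bar_bar]
  by_cases e3 : i = bar a
  · subst e3
    simp [h4, g1, h6, h1, h1.symm, h2, h3, h5.symm, bar_bar]
  by_cases e4 : i = bar b
  · subst e4
    simp [g2, h5, h6.symm, h1, h1.symm, h2, h3, h4.symm, bar_bar]
  simp [e1, e2, e3, e4]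

theorem simple_pairs : ∀ i : Fin chevD4.rank,
    let r := chevD4.simple (i : ℕ)
    let n := chevD4.neg r
    (r < 24 ∧ n < 24) ∧
      ((D4.pa n = bar (D4.pa r) ∧ D4.pb n = bar (D4.pb r)) ∨
        (D4.pa n = bar (D4.pb r) ∧ D4.pb n = bar (D4.pa r))) ∧
      ∀ p : I8, wt i p = if p = D4.pa r ∨ p = D4.pb r then 1 else
        if p = bar (D4.pa r) ∨ p = bar (D4.pb r) then -1 else 0 := by
  decide +kernel

theorem rep_hG (i : Fin chevD4.rank) (t : Fˣ)
    (h : hG facts_chevD4.{u} (chevD4.simple (i : ℕ)) (t : F) ∈ chevD4.group F) :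
    (rep (⟨hG facts_chevD4.{u} (chevD4.simple (i : ℕ)) (t : F), h⟩ : ↥(chevD4.group F)) :
      Matrix I8 I8 F) = Matrix.diagonal fun a => ((t ^ wt i a : Fˣ) : F) := by
  obtain ⟨⟨hr, hn⟩, hpair, hwt⟩ := simple_pairs i
  set r := chevD4.simple (i : ℕ)
  let g : F → ℕ → ↥(chevD4.group F) := fun t r =>
    ⟨xG facts_chevD4 r t, xG_mem_group facts_chevD4 r t⟩
  have e : (⟨hG facts_chevD4 r (t : F), h⟩ : ↥(chevD4.group F)) =
      g t r * g (-(t : F)⁻¹) (chevD4.neg r) * g t r *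
        (g (-1) r * g (-(-1 : F)⁻¹) (chevD4.neg r) * g (-1) r) := rfl
  set a := D4.pa r with ha
  set b := D4.pb r with hb
  have hab : Ok a b := D4.pair_ok hr
  have hab' : Ok (bar a) (bar b) := by
    have := D4.pair_ok hn
    rcases hpair with ⟨e1, e2⟩ | ⟨e1, e2⟩ <;> rw [e1, e2] at this
    · exact this
    · exact ⟨this.1.symm, fun e' => this.2 (by rw [e', bar_bar])⟩
  have hR : ∀ s : F, D4.rootEl r s = el hab s := fun s => by rw [D4.rootEl, dif_pos hr]
  have hR' : ∀ s : F, D4.rootEl (chevD4.neg r) s = el hab' s := fun s => by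
    rw [D4.rootEl, dif_pos hn]
    rcases hpair with ⟨e1, e2⟩ | ⟨e1, e2⟩
    · congr 1
    · have h'' : Ok (bar b) (bar a) := e1 ▸ e2 ▸ D4.pair_ok hn
      rw [el_swap hab' h'']
      congr 1
  have hrep : rep (⟨hG facts_chevD4 r (t : F), h⟩ : ↥(chevD4.group F)) =
      (el hab (t : F) * el hab' (t : F)⁻¹ * el hab (t : F) * (el hab 1 * el hab' 1 * el hab 1)).1 := by
    rw [e]
    simp only [map_mul, g, rep_xG, hR, hR', CharTwo.neg_eq, inv_one, Subgroup.coe_mul]
  rw [hrep]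
  refine Matrix.toLin'.injective (LinearMap.ext fun x => funext fun p => ?_)
  rw [Matrix.toLin'_apply, Matrix.toLin'_apply, Matrix.mulVec_diagonal]
  refine (hEl_apply hab hab' t.ne_zero x p).trans ?_
  congr 1
  rw [hwt p]
  split_ifs <;> simp

theorem rep_torus (c : Fin chevD4.rank → Fˣ) :
    (rep (⟨torusHom c, torusHom_mem_group c⟩ : ↥(chevD4.group F)) : Matrix I8 I8 F) =
      Matrix.diagonal fun a => ((lam c a : Fˣ) : F) := by
  classical
  let ψ : (Fin chevD4.rank → Fˣ) →* Matrix I8 I8 F :=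
    (Units.coeHom _).comp (rep.comp ((torusHom (D := chevD4)).codRestrict _ torusHom_mem_group))
  let δ : (Fin chevD4.rank → Fˣ) →* Matrix I8 I8 F :=
    { toFun := fun c => Matrix.diagonal fun a => ((lam c a : Fˣ) : F)
      map_one' := by simp [lam]
      map_mul' := fun c d => by
        rw [Matrix.diagonal_mul_diagonal]
        congr 1
        funext a
        simp [lam, mul_zpow, Finset.prod_mul_distrib] }
  have H : ∀ i t, ψ (Pi.mulSingle i t) = δ (Pi.mulSingle i t) := by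
    intro i t
    show (rep (⟨torusHom (Pi.mulSingle i t), torusHom_mem_group _⟩ : ↥(chevD4.group F)) :
      Matrix I8 I8 F) = Matrix.diagonal fun a => ((lam (Pi.mulSingle i t) a : Fˣ) : F)
    have e : hG facts_chevD4.{u} (chevD4.simple (i : ℕ)) (t : F) =
        (torusHom (Pi.mulSingle i t) : GL chevD4.Idx F) := by
      rw [hG_eq_torus facts_chevD4.{u} (facts_chevD4.{u}.simple_lt i i.2), coH_simple facts_chevD4.{u} i.2]
    have e' : (⟨torusHom (Pi.mulSingle i t), torusHom_mem_group _⟩ : ↥(chevD4.group F)) =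
        ⟨hG facts_chevD4.{u} (chevD4.simple (i : ℕ)) (t : F), e ▸ torusHom_mem_group _⟩ :=
      Subtype.ext e.symm
    rw [e', rep_hG i t]
    congr 1
    funext a
    congr 1
    rw [lam, Finset.prod_eq_single i]
    · rw [Pi.mulSingle_eq_same]
    · intro b _ hb; rw [Pi.mulSingle_eq_of_ne hb, _root_.one_zpow]
    · intro hn; exact absurd (Finset.mem_univ _) hn
  have H' : ∀ s : Finset (Fin chevD4.rank),
      ψ (∏ j ∈ s, Pi.mulSingle j (c j)) = δ (∏ j ∈ s, Pi.mulSingle j (c j)) := by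
    intro s
    induction s using Finset.induction_on with
    | empty => rw [Finset.prod_empty, map_one, map_one]
    | insert j s hj ih => rw [Finset.prod_insert hj, map_mul, map_mul, H, ih]
  have h := H' Finset.univ
  rw [Finset.univ_prod_mulSingle] at h
  exact h

section
variable {k : Type u} [Field k] [IsAlgClosed k]

theorem exists_cert (w : List (Fin chevD4.rank)) :
    ∃ c ∈ certs, c.1 = List.ofFn fun r : Fin 24 => (pWord facts_chevD4.{u} w r : ℕ) := by
  induction w with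
  | nil =>
    obtain ⟨c, hc, e⟩ := List.mem_map.1 (List.contains_iff_mem.1 certs_one)
    exact ⟨c, hc, e.trans (by rw [show pWord facts_chevD4.{u} [] = 1 from rfl]; rfl)⟩
  | cons i w ih =>
    obtain ⟨c, hc, e⟩ := ih
    have h := certs_closed
    simp only [closed, List.all_eq_true, List.mem_finRange, forall_const] at h
    obtain ⟨c', hc', e'⟩ := List.mem_map.1 (List.contains_iff_mem.1 (h i c hc))
    refine ⟨c', hc', e'.trans ?_⟩
    rw [e, List.map_ofFn]
    rfl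

theorem exists_point' {x : GL chevD4.Idx k} [CharP k 2] (hx : x ∈ chevD4.group k) {σ : k →+* k}
    (hσ : ∀ t, σ t = t ^ 2) (hfix : D4Torus.frob σ x = x) {m : ℕ} (hm : Odd m) (hxm : x ^ m = 1) :
    ∃ (a : Fin 4 → ℕ) (ξ : kˣ) (y : GL chevD4.Idx k) (c : Fin chevD4.rank → kˣ),
      IsPrimitiveRoot ξ 819 ∧ y ∈ chevD4.group k ∧ y * x * y⁻¹ = torusHom c ∧
        pointOk a = true ∧ ∀ r : Fin 24, chiU c (r : ℕ) = ξ ^ D4Twist.rval 819 a r := by
  classical
  haveI : Fact (Nat.Prime 2) := ⟨Nat.prime_two⟩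
  have hcast : ∀ n : ℕ, Odd n → (n : k) ≠ 0 := fun n hn h => by
    have := (CharP.cast_eq_zero_iff k 2 n).1 h
    obtain ⟨c, rfl⟩ := hn
    omega
  obtain ⟨y, hy, c, hc⟩ :=
    exists_conj_torus facts_chevD4 2 (by norm_num) D4Twist.cartanInv hx (hcast m hm) hxm
  set N := m * 819 with hNdef
  have hm0 : 0 < m := hm.pos
  have hN : 0 < N := by omega
  haveI : NeZero N := ⟨hN.ne'⟩
  haveI : NeZero (N : k) := ⟨hcast N (hm.mul (by decide))⟩
  have hcN : ∀ s : Fin chevD4.nroots, chiU c (s : ℕ) ^ N = 1 := by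
    intro s
    rw [hNdef, pow_mul, ← TorusTest.chiU_pow' c m]
    have h1 : torusHom (c ^ m) = (1 : GL chevD4.Idx k) := by
      rw [map_pow, ← hc, conj_pow, hxm, mul_one, mul_inv_cancel]
    rw [(torusHom_eq_one_iff _).1 h1 s, one_pow]
  obtain ⟨ζ₀, hζ₀⟩ := HasEnoughRootsOfUnity.exists_primitiveRoot k N
  obtain ⟨ζ, rfl⟩ := hζ₀.isUnit hN.ne'
  have hζ : IsPrimitiveRoot ζ N := IsPrimitiveRoot.coe_units_iff.1 hζ₀
  have hlog : ∀ i : Fin 4, ∃ a : ℕ, chiU c (chevD4.simple (i : ℕ)) = ζ ^ a := fun i => by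
    have h := hcN ⟨chevD4.simple i, facts_chevD4.{u}.simple_lt i i.2⟩
    obtain ⟨a, -, ha⟩ := hζ₀.eq_pow_of_pow_eq_one
      (ξ := ((chiU c (chevD4.simple i) : kˣ) : k)) (by rw [← Units.val_pow_eq_pow_val, h]; rfl)
    exact ⟨a, Units.ext (by rw [Units.val_pow_eq_pow_val, ha])⟩
  choose A hA using hlog
  have hroot : ∀ r : Fin 24, chiU c (r : ℕ) = ζ ^ (∑ i : Fin 4, D4Twist.coord r i * (A i : ℤ)) := by
    intro r
    rw [TorusTest.zpow_sum']
    simp only [mul_comm (D4Twist.coord r _), _root_.zpow_mul, _root_.zpow_natCast, ← hA]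
    simp only [chiU, ← Finset.prod_zpow, ← _root_.zpow_mul]
    rw [Finset.prod_comm]
    show ∏ i : Fin 4, c i ^ chevD4.cartan (i : ℕ) (r : ℕ) = _
    refine Finset.prod_congr rfl fun i _ => ?_
    rw [← TorusTest.zpow_sum', D4Twist.coord_spec r i]
    exact congrArg _ (Finset.sum_congr rfl fun l _ => mul_comm _ _)
  -- the twisted Frobenius
  have hy' : D4Torus.frob σ y ∈ chevD4.group k := by
    show d4_031_facts.aut (gmap chevD4 σ y) ∈ chevD4.group k
    have h := Subgroup.mem_map_of_mem (d4_031_facts.aut (F := k)).toMonoidHom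
      (gmap_mem_group facts_chevD4 facts_chevD4 σ hy)
    rwa [GraphFacts.map_group d4_031_facts facts_chevD4] at h
  set c' : Fin chevD4.rank → kˣ :=
    fun i => Units.map σ.toMonoidHom (c (d4_031_π.symm i)) with hc'
  have hfc : D4Torus.frob σ y * x * (D4Torus.frob σ y)⁻¹ = torusHom c' := by
    rw [← D4Torus.frob_torusHom, ← hc, map_mul, map_mul, map_inv, hfix]
  obtain ⟨-, -, -, -, -, w, -, hw⟩ := exists_decomp facts_chevD4 (c₁ := c) (c₂ := c')
    (g := y * (D4Torus.frob σ y)⁻¹) (Subgroup.mul_mem _ hy (Subgroup.inv_mem _ hy'))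
    (by rw [← hc, ← hfc]; group)
  have htw : ∀ r : Fin 24, chiU c (pWord facts_chevD4 w (d4_031_ρ r) : ℕ) = chiU c (r : ℕ) ^ 2 :=
    fun r => by
    rw [hw, hc']
    refine (D4Torus.chiU_twist σ c r).trans ?_
    apply Units.ext
    rw [Units.coe_map, Units.val_pow_eq_pow_val]
    exact hσ _
  obtain ⟨⟨p, U, d, V, Vi⟩, hmem, hp⟩ := exists_cert.{u} w
  simp only at hp
  have himg : ∀ i : Fin 4, (img p i : ℕ) = (pWord facts_chevD4.{u} w
      (d4_031_ρ ⟨chevD4.simple (i : ℕ), facts_chevD4.{u}.simple_lt i i.2⟩) : ℕ) := by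
    intro i
    have hlt : ∀ j : Fin 4, d4_031_P.getD (chevD4.simple (j : ℕ)) 0 < 24 := by decide +kernel
    rw [img, hp, List.getD_eq_getElem _ _ (by rw [List.length_ofFn]; exact hlt i), List.getElem_ofFn]
    exact (Nat.mod_eq_of_lt (Fin.is_lt _)).trans rfl
  have hT : ∀ i : Fin 4, (N : ℤ) ∣ ∑ l : Fin 4, tmat p i l * (A l : ℤ) := by
    intro i
    have h : chiU c (img p i : ℕ) = chiU c (chevD4.simple (i : ℕ)) ^ 2 := by
      rw [himg]; exact htw _
    rw [hroot, hA, ← pow_mul, ← _root_.zpow_natCast, TorusTest.zpow_iff hζ] at h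
    have e : ∑ l : Fin 4, tmat p i l * (A l : ℤ) =
        (∑ l : Fin 4, D4Twist.coord (img p i) l * (A l : ℤ)) - ((A i * 2 : ℕ) : ℤ) := by
      fin_cases i <;> simp [tmat, Fin.sum_univ_four] <;> ring
    rw [e]; exact h
  have hok := List.all_eq_true.1 certs_ok _ hmem
  simp only [certOk, List.all_eq_true, List.mem_finRange, forall_const, Bool.and_eq_true,
    decide_eq_true_eq] at hok
  set Y : Fin 4 → ℤ := fun i => ∑ l : Fin 4, ent Vi i l * (A l : ℤ) with hY
  have hdY : ∀ i : Fin 4, (N : ℤ) ∣ (d.getD (i : ℕ) 0 : ℤ) * Y i := by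
    intro i
    have e : (d.getD (i : ℕ) 0 : ℤ) * Y i =
        ent U i 0 * (∑ l : Fin 4, tmat p 0 l * (A l : ℤ)) +
          ent U i 1 * (∑ l : Fin 4, tmat p 1 l * (A l : ℤ)) +
          ent U i 2 * (∑ l : Fin 4, tmat p 2 l * (A l : ℤ)) +
          ent U i 3 * (∑ l : Fin 4, tmat p 3 l * (A l : ℤ)) := by
      have h := fun l => ((hok i).2 l).1
      simp only [hY, Fin.sum_univ_four]
      linear_combination -(A 0 : ℤ) * h 0 - (A 1 : ℤ) * h 1 - (A 2 : ℤ) * h 2 - (A 3 : ℤ) * h 3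
    rw [e]
    exact dvd_add (dvd_add (dvd_add ((hT 0).mul_left _) ((hT 1).mul_left _)) ((hT 2).mul_left _))
      ((hT 3).mul_left _)
  have hz : ∀ i : Fin 4, ∃ z : ℤ, Y i = (m : ℤ) * ((819 / d.getD (i : ℕ) 0 : ℕ) : ℤ) * z := by
    intro i
    obtain ⟨hd0, hd819⟩ := (hok i).1
    have e : 819 = d.getD (i : ℕ) 0 * (819 / d.getD (i : ℕ) 0) :=
      (Nat.mul_div_cancel' (Nat.dvd_of_mod_eq_zero hd819)).symm
    obtain ⟨z, hz⟩ := hdY i
    refine ⟨z, mul_left_cancel₀ (by exact_mod_cast hd0.ne' : (d.getD (i : ℕ) 0 : ℤ) ≠ 0) ?_⟩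
    rw [hz, hNdef]
    conv_lhs => rw [e]
    push_cast
    ring
  choose z hz using hz
  set K : Fin 4 → ℕ := fun i => (z i % (d.getD (i : ℕ) 0 : ℤ)).toNat with hK
  have hKlt : ∀ i, K i < d.getD (i : ℕ) 0 := fun i => by
    have h0 : (0 : ℤ) < (d.getD (i : ℕ) 0 : ℤ) := by exact_mod_cast ((hok i).1).1
    rw [hK, Int.toNat_lt (Int.emod_nonneg _ h0.ne')]
    exact Int.emod_lt_of_pos _ h0
  have hKz : ∀ i : Fin 4, (819 : ℤ) ∣ ((819 / d.getD (i : ℕ) 0 : ℕ) : ℤ) * z i -
      (((819 / d.getD (i : ℕ) 0) * K i : ℕ) : ℤ) := fun i => by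
    have h0 : (0 : ℤ) < (d.getD (i : ℕ) 0 : ℤ) := by exact_mod_cast ((hok i).1).1
    have e : 819 = (819 / d.getD (i : ℕ) 0) * d.getD (i : ℕ) 0 :=
      (Nat.div_mul_cancel (Nat.dvd_of_mod_eq_zero ((hok i).1).2)).symm
    rw [Nat.cast_mul, show ((K i : ℕ) : ℤ) = z i % (d.getD (i : ℕ) 0 : ℤ) from
      Int.toNat_of_nonneg (Int.emod_nonneg _ h0.ne'), ← mul_sub]
    conv_lhs => rw [show (819 : ℤ) = ((819 : ℕ) : ℤ) from rfl, e, Nat.cast_mul]
    exact mul_dvd_mul_left _ Int.dvd_self_sub_emod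
  set a := point d V (K 0) (K 1) (K 2) (K 3) with hadef
  have hAa : ∀ l : Fin 4, ∃ b : ℤ, (A l : ℤ) = (m : ℤ) * b ∧ (819 : ℤ) ∣ b - (a l : ℤ) := by
    intro l
    refine ⟨ent V l 0 * (((819 / d.getD 0 0 : ℕ) : ℤ) * z 0) +
      ent V l 1 * (((819 / d.getD 1 0 : ℕ) : ℤ) * z 1) +
      ent V l 2 * (((819 / d.getD 2 0 : ℕ) : ℤ) * z 2) +
      ent V l 3 * (((819 / d.getD 3 0 : ℕ) : ℤ) * z 3), ?_, ?_⟩
    · have h := fun q => ((hok l).2 q).2
      have e : ent V l 0 * Y 0 + ent V l 1 * Y 1 + ent V l 2 * Y 2 + ent V l 3 * Y 3 = (A l : ℤ) := by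
        have h0 := h 0; have h1 := h 1; have h2 := h 2; have h3 := h 3
        simp only [hY, Fin.sum_univ_four]
        clear h
        fin_cases l <;> simp at h0 h1 h2 h3 ⊢ <;>
          linear_combination (A 0 : ℤ) * h0 + (A 1 : ℤ) * h1 + (A 2 : ℤ) * h2 + (A 3 : ℤ) * h3
      rw [← e, hz 0, hz 1, hz 2, hz 3]
      simp only [Fin.val_zero, Fin.val_one, Fin.val_two, show ((3 : Fin 4) : ℕ) = 3 from rfl]
      ring
    · rw [hadef, point, Int.toNat_of_nonneg (Int.emod_nonneg _ (by norm_num))]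
      set S := ent V l 0 * ((819 / d.getD 0 0 * K 0 : ℕ) : ℤ) +
        ent V l 1 * ((819 / d.getD 1 0 * K 1 : ℕ) : ℤ) +
        ent V l 2 * ((819 / d.getD 2 0 * K 2 : ℕ) : ℤ) +
        ent V l 3 * ((819 / d.getD 3 0 * K 3 : ℕ) : ℤ)
      rw [← sub_add_sub_cancel _ S]
      refine dvd_add ?_ Int.dvd_self_sub_emod
      have h := dvd_add (dvd_add (dvd_add ((hKz 0).mul_left (ent V l 0)) ((hKz 1).mul_left (ent V l 1)))
        ((hKz 2).mul_left (ent V l 2))) ((hKz 3).mul_left (ent V l 3))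
      convert h using 1
      simp only [S, Fin.val_zero, Fin.val_one, Fin.val_two, show ((3 : Fin 4) : ℕ) = 3 from rfl]
      ring
  have hξ : IsPrimitiveRoot (ζ ^ m) 819 := hζ.pow hN (by rw [hNdef])
  refine ⟨a, ζ ^ m, y, c, hξ, hy, hc, ?_, fun r => ?_⟩
  · have h := List.all_eq_true.1 certs_torus _ hmem
    simp only [torusOk, List.all_eq_true, List.mem_range] at h
    exact h _ (hKlt 0) _ (hKlt 1) _ (hKlt 2) _ (hKlt 3)
  · choose b hb hb' using hAa
    have e : (∑ i : Fin 4, D4Twist.coord r i * (A i : ℤ)) =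
        (m : ℤ) * ∑ i : Fin 4, D4Twist.coord r i * b i := by
      rw [Finset.mul_sum]
      exact Finset.sum_congr rfl fun i _ => by rw [hb]; ring
    rw [hroot, e, _root_.zpow_mul, _root_.zpow_natCast, ← _root_.zpow_natCast _ (D4Twist.rval 819 a r),
      TorusTest.zpow_iff hξ, D4Twist.rval, Int.toNat_of_nonneg (Int.emod_nonneg _ (by norm_num))]
    rw [Fin.sum_univ_four]
    set S := D4Twist.coord r 0 * (a 0 : ℤ) + D4Twist.coord r 1 * (a 1 : ℤ) +
      D4Twist.coord r 2 * (a 2 : ℤ) + D4Twist.coord r 3 * (a 3 : ℤ)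
    rw [← sub_add_sub_cancel _ S]
    refine dvd_add ?_ Int.dvd_self_sub_emod
    have h := dvd_add (dvd_add (dvd_add ((hb' 0).mul_left (D4Twist.coord r 0))
      ((hb' 1).mul_left (D4Twist.coord r 1))) ((hb' 2).mul_left (D4Twist.coord r 2)))
      ((hb' 3).mul_left (D4Twist.coord r 3))
    refine (congrArg ((819 : ℤ) ∣ ·) ?_).mp h
    ring

end

end Cfsg.Agent.D4Nat
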